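import Mathlib.RingTheory.Valuation.Extension
import Mathlib.RingTheory.Valuation.ValuationSubring
import Mathlib.RingTheory.AlgebraicIndependent.Transcendental
import Mathlib.RingTheory.AlgebraicIndependent.TranscendenceBasis
import Mathlib.LinearAlgebra.Dimension.Localization
import Mathlib.RingTheory.LocalRing.ResidueField.Basic
import Mathlib.Algebra.MvPolynomial.Eval

/-!
# Abhyankar's inequality

For an extension of valued fields `(K, vK) → (L, vL)`:
* `exists_val_aeval_eq`: elements with algebraically independent residues: the values of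
  polynomials are values of elements of `K`;
* `algebraicIndependent_units`: elements whose classes in `L^× / (O_L^× K^×)` are `ℤ`-linearly
  independent are algebraically independent over any subalgebra all of whose nonzero elements have
  the value of an element of `K^×`;
* `rank_add_trdeg_le`: Abhyankar's inequality.
-/

set_option autoImplicit false

namespace K86.Abhyankar

open MvPolynomial IsLocalRing

universe u

section

variable {K L Γ₀ Γ₁ : Type*} [Field K] [Field L] [Algebra K L]
  [LinearOrderedCommGroupWithZero Γ₀] [LinearOrderedCommGroupWithZero Γ₁]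
  (vK : Valuation K Γ₀) (vL : Valuation L Γ₁) [vK.HasExtension vL]

/-- Gauss norm: if the residues of the `y j` are algebraically independent then every polynomial in
the `y j` with coefficients in `K` has the value of an element of `K`. -/
theorem exists_val_aeval_eq {κ : Type*} (y : κ → vL.valuationSubring)
    (hy : AlgebraicIndependent (ResidueField vK.valuationSubring)
      (fun j => residue vL.valuationSubring (y j)))
    (G : MvPolynomial κ K) (hG : G ≠ 0) :
    ∃ c : K, c ≠ 0 ∧ vL (aeval (fun j => (y j : L)) G) = vL (algebraMap K L c) := by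
  classical
  obtain ⟨β, hβ, hmax⟩ := G.support.exists_max_image (fun β => vK (coeff β G))
    (support_nonempty.mpr hG)
  have hc0 : coeff β G ≠ 0 := mem_support_iff.mp hβ
  refine ⟨coeff β G, hc0, ?_⟩
  set c := coeff β G with hc
  have hvc : vK c ≠ 0 := (Valuation.ne_zero_iff vK).mpr hc0
  -- the normalized polynomial
  have hmem : C c⁻¹ * G ∈ Set.range (MvPolynomial.map (σ := κ) (algebraMap vK.valuationSubring K)) := by
    rw [MvPolynomial.mem_range_map_iff_coeffs_subset]
    intro a ha
    rw [Finset.mem_coe, MvPolynomial.mem_coeffs_iff] at ha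
    obtain ⟨γ, hγ, rfl⟩ := ha
    have h1 : vK (coeff γ G) ≤ vK c := by
      by_cases h : γ ∈ G.support
      · exact hmax γ h
      · rw [notMem_support_iff.mp h, map_zero]
        exact zero_le'
    refine ⟨⟨coeff γ (C c⁻¹ * G), ?_⟩, rfl⟩
    rw [Valuation.mem_valuationSubring_iff, coeff_C_mul, map_mul, map_inv₀]
    calc (vK c)⁻¹ * vK (coeff γ G) ≤ (vK c)⁻¹ * vK c := by gcongr
      _ = 1 := inv_mul_cancel₀ hvc
  obtain ⟨G', hG'⟩ := hmem
  have h2 : coeff β G' = 1 := by
    have h3 := congrArg (coeff β) hG'
    rw [MvPolynomial.coeff_map] at h3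
    have h4 : coeff β (C c⁻¹ * G) = 1 := by
      rw [coeff_C_mul, ← hc, inv_mul_cancel₀ hc0]
    rw [h4] at h3
    exact Subtype.ext h3
  have h5 : MvPolynomial.map (residue vK.valuationSubring) G' ≠ 0 := by
    intro h
    have := congrArg (coeff β) h
    rw [MvPolynomial.coeff_map, h2, map_one, coeff_zero] at this
    exact one_ne_zero this
  have h6 : residue vL.valuationSubring (aeval y G') ≠ 0 := by
    intro h
    apply h5
    apply hy
    rw [map_zero, ← h, map_aeval, aeval_def, eval₂_map]
    rfl
  have h7 : vL (aeval y G' : vL.valuationSubring) = 1 := by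
    have h8 : IsUnit (aeval y G' : vL.valuationSubring) := by
      by_contra hcon
      exact h6 ((residue_eq_zero_iff _).mpr hcon)
    obtain ⟨u, hu⟩ := h8
    rw [← hu]
    have := (Valuation.integer.integers vL).valuation_unit u
    exact this
  have h9 : ((aeval y G' : vL.valuationSubring) : L) =
      algebraMap K L c⁻¹ * aeval (fun j => (y j : L)) G := by
    have h10 : algebraMap vL.valuationSubring L (aeval y G') =
        aeval (fun j => (y j : L)) (MvPolynomial.map (algebraMap vK.valuationSubring K) G') := by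
      rw [map_aeval, aeval_def, eval₂_map]
      rfl
    have h11 : MvPolynomial.map (algebraMap vK.valuationSubring K) G' = C c⁻¹ * G := hG'
    rw [h11, map_mul, aeval_C] at h10
    exact h10
  rw [h9, map_mul, map_inv₀, map_inv₀] at h7
  have hvc' : vL (algebraMap K L c) ≠ 0 := by
    rw [Valuation.ne_zero_iff]
    exact (map_ne_zero _).mpr hc0
  rw [inv_mul_eq_one₀ hvc'] at h7
  exact h7.symm

/-- A nonempty sum of nonzero elements with pairwise distinct values is nonzero. -/
theorem sum_ne_zero_of_injOn {L Γ₁ : Type*} [Field L] [LinearOrderedCommGroupWithZero Γ₁]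
    (v : Valuation L Γ₁) {ι : Type*} (s : Finset ι) (hs : s.Nonempty) (f : ι → L)
    (h0 : ∀ i ∈ s, f i ≠ 0) (hinj : ∀ i ∈ s, ∀ j ∈ s, v (f i) = v (f j) → i = j) :
    ∑ i ∈ s, f i ≠ 0 := by
  classical
  obtain ⟨j, hj, hmax⟩ := s.exists_max_image (fun i => v (f i)) hs
  have h1 : v (∑ i ∈ s, f i) = v (f j) := by
    refine Valuation.map_sum_eq_of_lt v hj fun i hi => ?_
    rw [Finset.mem_sdiff, Finset.mem_singleton] at hi
    exact lt_of_le_of_ne (hmax i hi.1) fun h => hi.2 (hinj i hi.1 j hj h)
  intro h
  rw [h, map_zero] at h1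
  exact (Valuation.ne_zero_iff v).mpr (h0 j hj) h1.symm

variable (K) in
/-- The subgroup `O_L^× K^×` of `L^×`. -/
noncomputable abbrev unitSub : Subgroup Lˣ :=
  vL.valuationSubring.unitGroup ⊔ (Units.map (algebraMap K L).toMonoidHom).range

omit [vK.HasExtension vL] in
theorem mem_unitSub {a b : Lˣ} {c c' : K} (hc : c ≠ 0) (hc' : c' ≠ 0)
    (h : vL (algebraMap K L c) * vL a = vL (algebraMap K L c') * vL b) :
    a⁻¹ * b ∈ unitSub K vL := by
  have hvc' : vL (algebraMap K L c') ≠ 0 := by
    rw [Valuation.ne_zero_iff]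
    exact (map_ne_zero _).mpr hc'
  have hva : vL (a : L) ≠ 0 := by
    rw [Valuation.ne_zero_iff]
    exact a.ne_zero
  let d : Kˣ := Units.mk0 c hc * (Units.mk0 c' hc')⁻¹
  have h1 : a⁻¹ * b = (a⁻¹ * b * (Units.map (algebraMap K L).toMonoidHom d)⁻¹) *
      Units.map (algebraMap K L).toMonoidHom d := by
    rw [inv_mul_cancel_right]
  rw [h1]
  refine Subgroup.mul_mem_sup ?_ ⟨d, rfl⟩
  rw [ValuationSubring.mem_unitGroup_iff,
    ← (Valuation.isEquiv_valuation_valuationSubring vL).eq_one_iff_eq_one]
  have h2 : (((a⁻¹ * b * (Units.map (algebraMap K L).toMonoidHom d)⁻¹ : Lˣ)) : L) =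
      (a : L)⁻¹ * b * (algebraMap K L c * (algebraMap K L c')⁻¹)⁻¹ := by
    simp [d]
  rw [h2, map_mul, map_mul, map_inv₀, map_inv₀, map_mul, map_inv₀, mul_inv, inv_inv]
  have hvc : vL (algebraMap K L c) ≠ 0 := by
    rw [Valuation.ne_zero_iff]
    exact (map_ne_zero _).mpr hc
  field_simp
  rw [mul_comm (vL (b : L)), ← h, mul_comm]

omit [vK.HasExtension vL] in
/-- Algebraic independence of elements with independent classes in `L^× / O_L^× K^×`. -/
theorem algebraicIndependent_units (B : Subalgebra K L)
    (hB : ∀ b ∈ B, b ≠ 0 → ∃ c : K, c ≠ 0 ∧ vL b = vL (algebraMap K L c)) {ι : Type*} (x : ι → Lˣ)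
    (hx : LinearIndependent ℤ (fun i => (QuotientAddGroup.mk (Additive.ofMul (x i)) :
      Additive Lˣ ⧸ Subgroup.toAddSubgroup (unitSub K vL)))) :
    AlgebraicIndependent B (fun i => (x i : L)) := by
  classical
  rw [algebraicIndependent_iff]
  intro G hG
  by_contra hG0
  rw [aeval_def, eval₂_eq] at hG
  refine sum_ne_zero_of_injOn vL G.support (support_nonempty.mpr hG0) _ ?_ ?_ hG
  · intro α hα
    refine mul_ne_zero ?_ (Finset.prod_ne_zero_iff.mpr fun i _ => pow_ne_zero _ (x i).ne_zero)
    intro h
    exact mem_support_iff.mp hα (Subtype.ext h)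
  · intro α hα α' hα' h
    obtain ⟨c, hc0, hc⟩ := hB (coeff α G : B) (coeff α G).2
      (fun h => mem_support_iff.mp hα (Subtype.ext h))
    obtain ⟨c', hc0', hc'⟩ := hB (coeff α' G : B) (coeff α' G).2
      (fun h => mem_support_iff.mp hα' (Subtype.ext h))
    let mon : (ι →₀ ℕ) → Lˣ := fun α => α.prod fun i n => x i ^ n
    have hmon : ∀ α : ι →₀ ℕ, (mon α : L) = ∏ i ∈ α.support, (x i : L) ^ α i := by
      intro α
      simp only [mon, Finsupp.prod, Units.coe_prod, Units.val_pow_eq_pow_val]
    have h1 : vL (algebraMap K L c) * vL (mon α) = vL (algebraMap K L c') * vL (mon α') := by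
      rw [hmon, hmon, ← hc, ← hc', ← map_mul, ← map_mul]
      exact h
    have h2 := mem_unitSub vL hc0 hc0' h1
    -- the class of a monomial
    have h3 : ∀ α : ι →₀ ℕ, (QuotientAddGroup.mk (Additive.ofMul (mon α)) :
        Additive Lˣ ⧸ Subgroup.toAddSubgroup (unitSub K vL)) =
        Finsupp.linearCombination ℤ (fun i => (QuotientAddGroup.mk (Additive.ofMul (x i)) :
          Additive Lˣ ⧸ Subgroup.toAddSubgroup (unitSub K vL)))
          (α.mapRange (Nat.cast : ℕ → ℤ) Nat.cast_zero) := by
      intro α
      rw [Finsupp.linearCombination_apply, Finsupp.sum_mapRange_index (by simp)]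
      simp only [mon, Finsupp.prod, Finsupp.sum, ofMul_prod, ofMul_pow, natCast_zsmul]
      rw [← QuotientAddGroup.mk'_apply, map_sum]
      rfl
    have h4 : (QuotientAddGroup.mk (Additive.ofMul (mon α)) :
        Additive Lˣ ⧸ Subgroup.toAddSubgroup (unitSub K vL)) =
        QuotientAddGroup.mk (Additive.ofMul (mon α')) := by
      rw [QuotientAddGroup.eq]
      exact h2
    rw [h3, h3] at h4
    have h5 := hx h4
    ext i
    have h6 := DFunLike.congr_fun h5 i
    simpa using h6

end

/-- Abhyankar's inequality. -/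
theorem rank_add_trdeg_le {K L Γ₀ Γ₁ : Type u} [Field K] [Field L] [Algebra K L]
    [LinearOrderedCommGroupWithZero Γ₀] [LinearOrderedCommGroupWithZero Γ₁]
    (vK : Valuation K Γ₀) (vL : Valuation L Γ₁) [vK.HasExtension vL] :
    Module.rank ℤ (Additive Lˣ ⧸ Subgroup.toAddSubgroup (unitSub K vL)) +
      Algebra.trdeg (ResidueField vK.valuationSubring) (ResidueField vL.valuationSubring) ≤
        Algebra.trdeg K L := by
  obtain ⟨s, hs, hli⟩ := exists_set_linearIndependent ℤ
    (Additive Lˣ ⧸ Subgroup.toAddSubgroup (unitSub K vL))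
  obtain ⟨t, ht⟩ := exists_isTranscendenceBasis (ResidueField vK.valuationSubring)
    (ResidueField vL.valuationSubring)
  have ht' := ht.cardinalMk_eq_trdeg
  choose x hx using fun i : s => QuotientAddGroup.mk_surjective
    (i.1 : Additive Lˣ ⧸ Subgroup.toAddSubgroup (unitSub K vL))
  choose y hy using fun j : t => residue_surjective (R := vL.valuationSubring)
    (j : ResidueField vL.valuationSubring)
  have hy' : AlgebraicIndependent (ResidueField vK.valuationSubring)
      (fun j => residue vL.valuationSubring (y j)) := by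
    simp_rw [hy]
    exact ht.1
  have hgauss := exists_val_aeval_eq vK vL y hy'
  have hyL : AlgebraicIndependent K (fun j => (y j : L)) := by
    rw [algebraicIndependent_iff]
    intro G hG
    by_contra hG0
    obtain ⟨c, hc, hcG⟩ := hgauss G hG0
    rw [hG, map_zero] at hcG
    exact (Valuation.ne_zero_iff vL).mpr ((map_ne_zero (algebraMap K L)).mpr hc) hcG.symm
  have hB : ∀ b ∈ Algebra.adjoin K (Set.range fun j => (y j : L)), b ≠ 0 →
      ∃ c : K, c ≠ 0 ∧ vL b = vL (algebraMap K L c) := by
    intro b hb hb0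
    rw [Algebra.adjoin_range_eq_range_aeval] at hb
    obtain ⟨G, rfl⟩ := hb
    exact hgauss G (fun h => hb0 (by rw [h]; exact map_zero _))
  have hxi := algebraicIndependent_units vL _ hB (fun i => Additive.toMul (x i)) (by
    have : (fun i => (QuotientAddGroup.mk (Additive.ofMul (Additive.toMul (x i))) :
        Additive Lˣ ⧸ Subgroup.toAddSubgroup (unitSub K vL))) = fun i : s => i.1 := by
      funext i
      exact hx i
    rw [this]
    exact hli)
  have := (hyL.sumElim hxi).cardinalMk_le_trdeg
  rw [Cardinal.mk_sum, Cardinal.lift_id, Cardinal.lift_id, hs, ht'] at this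
  exact this

end K86.Abhyankar
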