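import Mathlib.Algebra.Module.Torsion.Basic
import Mathlib.Algebra.Module.Projective
import Mathlib.RingTheory.Finiteness.Projective
import Mathlib.RingTheory.TensorProduct.Finite
import Mathlib.LinearAlgebra.TensorProduct.Quotient
import Mathlib.LinearAlgebra.TensorProduct.RightExactness
import Mathlib.RingTheory.Ideal.Quotient.Operations
import Mathlib.LinearAlgebra.FreeModule.Basic
import Mathlib.RingTheory.TensorProduct.Free

/-!
# Finitely generated projective modules over a complete filtered ring

`A` a ring with a decreasing sequence of ideals `I n`, for which `A` is complete and separated, and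
such that `I 1` is nilpotent modulo each `I n`. An `A`-module `P` is finitely generated projective
if and only if it is separated and all `P / I n P` are finitely generated projective over
`A / I n`.

* `exists_lift_of_projective_quot`
* `finite_and_projective_iff`
-/

set_option autoImplicit false

namespace K86.FiltProj

universe u v

/-- If `M / I M` is projective over `A / I`, then linear maps from `M` lift along surjections with
source killed by `I`. -/
theorem exists_lift_of_projective_quot {A : Type*} [CommRing A] (I : Ideal A) {M N N' : Type*}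
    [AddCommGroup M] [Module A M] [Module.Projective (A ⧸ I) (M ⧸ (I • ⊤ : Submodule A M))]
    [AddCommGroup N] [Module A N] [AddCommGroup N'] [Module A N'] (π : N →ₗ[A] N')
    (hπ : Function.Surjective π) (hN : ∀ a ∈ I, ∀ x : N, a • x = 0) (f : M →ₗ[A] N') :
    ∃ g : M →ₗ[A] N, π ∘ₗ g = f := by
  have h1 : Module.IsTorsionBySet A N I := fun x a => hN a a.2 x
  have hN' : ∀ a ∈ I, ∀ x : N', a • x = 0 := by
    intro a ha x
    obtain ⟨y, rfl⟩ := hπ x
    rw [← map_smul, hN a ha, map_zero]
  have h2 : Module.IsTorsionBySet A N' I := fun x a => hN' a a.2 x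
  let i1 : Module (A ⧸ I) N := h1.module
  have i2 : IsScalarTower A (A ⧸ I) N := h1.isScalarTower
  let i3 : Module (A ⧸ I) N' := h2.module
  have i4 : IsScalarTower A (A ⧸ I) N' := h2.isScalarTower
  have hs : Function.Surjective (algebraMap A (A ⧸ I)) := Ideal.Quotient.mk_surjective
  have hker : (I • ⊤ : Submodule A M) ≤ LinearMap.ker f := by
    rw [Submodule.smul_le]
    intro a ha x _
    rw [LinearMap.mem_ker, map_smul, hN' a ha]
  let fq : M ⧸ (I • ⊤ : Submodule A M) →ₗ[A] N' := Submodule.liftQ _ f hker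
  obtain ⟨g, hg⟩ := Module.projective_lifting_property (R := A ⧸ I)
    (LinearMap.extendScalarsOfSurjective hs π) (LinearMap.extendScalarsOfSurjective hs fq) hπ
  refine ⟨(g.restrictScalars A) ∘ₗ Submodule.mkQ _, ?_⟩
  ext x
  have := LinearMap.congr_fun hg (Submodule.Quotient.mk x)
  exact this

theorem mem_smul_top_pi_iff {A : Type*} [CommRing A] {ι : Type*} [Finite ι] (I : Ideal A)
    (v : ι → A) : v ∈ (I • ⊤ : Submodule A (ι → A)) ↔ ∀ j, v j ∈ I := by
  classical
  have := Fintype.ofFinite ι
  constructor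
  · intro h j
    refine Submodule.smul_induction_on h ?_ ?_
    · intro a ha w _
      exact I.mul_mem_right _ ha
    · intro x y hx hy
      exact I.add_mem hx hy
  · intro h
    rw [pi_eq_sum_univ' v]
    refine Submodule.sum_mem _ fun j _ => ?_
    exact Submodule.smul_mem_smul (h j) Submodule.mem_top

variable {A : Type u} [CommRing A] (I : ℕ → Ideal A)

/-- The forward direction. -/
theorem separated_and_finite_projective (hsep : ∀ a : A, (∀ n, a ∈ I n) → a = 0)
    (P : Type v) [AddCommGroup P] [Module A P] [Module.Finite A P] [Module.Projective A P] :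
    (⨅ n : ℕ, (I n • (⊤ : Submodule A P))) = ⊥ ∧
      ∀ n : ℕ, Module.Finite (A ⧸ I n) (P ⧸ (I n • (⊤ : Submodule A P))) ∧
        Module.Projective (A ⧸ I n) (P ⧸ (I n • (⊤ : Submodule A P))) := by
  refine ⟨?_, fun n => ⟨?_, ?_⟩⟩
  · obtain ⟨m, f, g, hf, hg, hfg⟩ := Module.Finite.exists_comp_eq_id_of_projective A P
    rw [eq_bot_iff]
    intro x hx
    rw [Submodule.mem_bot]
    apply hg
    rw [map_zero]
    ext j
    apply hsep
    intro n
    have h1 : x ∈ I n • (⊤ : Submodule A P) := (Submodule.mem_iInf _).mp hx n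
    have h2 : g x ∈ I n • (⊤ : Submodule A (Fin m → A)) := by
      have h3 := Submodule.mem_map_of_mem (f := g) h1
      rw [Submodule.map_smul''] at h3
      exact Submodule.smul_mono le_rfl le_top h3
    exact (mem_smul_top_pi_iff (I n) (g x)).mp h2 j
  · have : Module.Finite A (P ⧸ (I n • (⊤ : Submodule A P))) := inferInstance
    exact Module.Finite.of_restrictScalars_finite A (A ⧸ I n) _
  · have hs : Function.Surjective (algebraMap A (A ⧸ I n)) := Ideal.Quotient.mk_surjective
    let e := TensorProduct.quotTensorEquivQuotSMul P (I n)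
    let e' : (TensorProduct A (A ⧸ I n) P) ≃ₗ[A ⧸ I n] (P ⧸ (I n • (⊤ : Submodule A P))) :=
      LinearEquiv.extendScalarsOfSurjective hs e
    exact Module.Projective.of_equiv' e'

section backward

variable {P : Type v} [AddCommGroup P] [Module A P] {L : Type u} [AddCommGroup L] [Module A L]
  (u : L →ₗ[A] P)

/-- The map `L / I n L → P / I n P` induced by `u`. -/
noncomputable def redMap (n : ℕ) :
    (L ⧸ (I n • ⊤ : Submodule A L)) →ₗ[A] (P ⧸ (I n • ⊤ : Submodule A P)) :=
  Submodule.mapQ _ _ u (by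
    rw [← Submodule.map_le_iff_le_comap, Submodule.map_smul'']
    exact Submodule.smul_mono le_rfl le_top)

@[simp] theorem redMap_mk (n : ℕ) (x : L) :
    redMap I u n (Submodule.Quotient.mk x) = Submodule.Quotient.mk (u x) := rfl

/-- The transition map `L / I (n + 1) L → L / I n L`. -/
noncomputable def trans (hI : ∀ n, I (n + 1) ≤ I n) (L : Type*) [AddCommGroup L] [Module A L]
    (n : ℕ) :
    (L ⧸ (I (n + 1) • ⊤ : Submodule A L)) →ₗ[A] (L ⧸ (I n • ⊤ : Submodule A L)) :=
  Submodule.factor (Submodule.smul_mono_left (hI n))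

@[simp] theorem trans_mk (hI : ∀ n, I (n + 1) ≤ I n) {L : Type*} [AddCommGroup L] [Module A L]
    (n : ℕ) (x : L) :
    trans I hI L n (Submodule.Quotient.mk x) = Submodule.Quotient.mk x := rfl

theorem smul_quot_eq_zero {L : Type*} [AddCommGroup L] [Module A L] (J : Ideal A) (a : A)
    (ha : a ∈ J) (x : L ⧸ (J • ⊤ : Submodule A L)) : a • x = 0 := by
  obtain ⟨y, rfl⟩ := Submodule.Quotient.mk_surjective _ x
  rw [← Submodule.Quotient.mk_smul, Submodule.Quotient.mk_eq_zero]
  exact Submodule.smul_mem_smul ha Submodule.mem_top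

/-- The inductive step: compatible sections modulo `I n`. -/
theorem exists_section_succ (hI : ∀ n, I (n + 1) ≤ I n) (n : ℕ)
    [Module.Projective (A ⧸ I (n + 1)) (P ⧸ (I (n + 1) • (⊤ : Submodule A P)))]
    (hu : Function.Surjective (redMap I u (n + 1)))
    (s : P →ₗ[A] (L ⧸ (I n • ⊤ : Submodule A L)))
    (hs : redMap I u n ∘ₗ s = Submodule.mkQ _) :
    ∃ s' : P →ₗ[A] (L ⧸ (I (n + 1) • ⊤ : Submodule A L)),
      redMap I u (n + 1) ∘ₗ s' = Submodule.mkQ _ ∧ trans I hI L n ∘ₗ s' = s := by
  have hkill := smul_quot_eq_zero (L := L) (I (n + 1))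
  obtain ⟨t, ht⟩ := exists_lift_of_projective_quot (I (n + 1)) (redMap I u (n + 1)) hu hkill
    (Submodule.mkQ (I (n + 1) • ⊤ : Submodule A P))
  have htr : Function.Surjective (trans I hI L n) := by
    intro x
    obtain ⟨y, rfl⟩ := Submodule.Quotient.mk_surjective _ x
    exact ⟨Submodule.Quotient.mk y, rfl⟩
  obtain ⟨e, he⟩ := exists_lift_of_projective_quot (I (n + 1)) (trans I hI L n) htr hkill
    (s - trans I hI L n ∘ₗ t)
  have ht' : ∀ x, redMap I u (n + 1) (t x) = Submodule.Quotient.mk x :=
    fun x => LinearMap.congr_fun ht x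
  have he' : ∀ x, trans I hI L n (e x) = s x - trans I hI L n (t x) :=
    fun x => LinearMap.congr_fun he x
  have hs' : ∀ x, redMap I u n (s x) = Submodule.Quotient.mk x :=
    fun x => LinearMap.congr_fun hs x
  have hkert : (I (n + 1) • ⊤ : Submodule A P) ≤ LinearMap.ker t := by
    rw [Submodule.smul_le]
    intro a ha x _
    rw [LinearMap.mem_ker, map_smul]
    exact hkill a ha _
  let tq : (P ⧸ (I (n + 1) • ⊤ : Submodule A P)) →ₗ[A] (L ⧸ (I (n + 1) • ⊤ : Submodule A L)) :=
    Submodule.liftQ _ t hkert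
  have htq : ∀ x, tq (Submodule.Quotient.mk x) = t x := fun x => rfl
  have hcomm : ∀ z, redMap I u n (trans I hI L n z) = trans I hI P n (redMap I u (n + 1) z) := by
    intro z
    obtain ⟨y, rfl⟩ := Submodule.Quotient.mk_surjective _ z
    rfl
  refine ⟨t + (e - tq ∘ₗ redMap I u (n + 1) ∘ₗ e), ?_, ?_⟩
  · apply LinearMap.ext
    intro x
    have h1 : ∀ z, redMap I u (n + 1) (tq z) = z := by
      intro z
      obtain ⟨y, rfl⟩ := Submodule.Quotient.mk_surjective _ z
      rw [htq, ht']
    simp only [LinearMap.comp_apply, LinearMap.add_apply, LinearMap.sub_apply, map_add, map_sub,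
      h1, ht', sub_self, add_zero, Submodule.mkQ_apply]
  · apply LinearMap.ext
    intro x
    have h2 : trans I hI L n (tq (redMap I u (n + 1) (e x))) = 0 := by
      obtain ⟨y, hy⟩ := Submodule.Quotient.mk_surjective _ (redMap I u (n + 1) (e x))
      have h3 : y ∈ (I n • ⊤ : Submodule A P) := by
        rw [← Submodule.Quotient.mk_eq_zero, ← trans_mk I hI, hy, ← hcomm, he', map_sub, hs', hcomm,
          ht', trans_mk, sub_self]
      rw [← hy, htq]
      have h4 : (I n • ⊤ : Submodule A P) ≤ LinearMap.ker (trans I hI L n ∘ₗ t) := by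
        rw [Submodule.smul_le]
        intro a ha z _
        rw [LinearMap.mem_ker, map_smul]
        exact smul_quot_eq_zero (L := L) (I n) a ha _
      exact h4 h3
    simp only [LinearMap.comp_apply, LinearMap.add_apply, LinearMap.sub_apply, map_add, map_sub,
      h2, sub_zero, he']
    abel

end backward

/-- The backward direction. -/
theorem finite_and_projective (hI : ∀ n, I (n + 1) ≤ I n) (hsep : ∀ a : A, (∀ n, a ∈ I n) → a = 0)
    (hcomplete : ∀ x : ℕ → A, (∀ n, x (n + 1) - x n ∈ I n) → ∃ l : A, ∀ n, l - x n ∈ I n)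
    (hnil : ∀ n, ∃ k, I 1 ^ k ≤ I n)
    (P : Type v) [AddCommGroup P] [Module A P]
    (hP : (⨅ n : ℕ, (I n • (⊤ : Submodule A P))) = ⊥)
    (hfin : ∀ n : ℕ, Module.Finite (A ⧸ I n) (P ⧸ (I n • (⊤ : Submodule A P))))
    (hproj : ∀ n : ℕ, Module.Projective (A ⧸ I n) (P ⧸ (I n • (⊤ : Submodule A P)))) :
    Module.Finite A P ∧ Module.Projective A P := by
  classical
  have hf1 : Module.Finite A (P ⧸ (I 1 • (⊤ : Submodule A P))) := by
    have := hfin 1
    exact Module.Finite.trans (A ⧸ I 1) _
  obtain ⟨m, q, hq⟩ := Module.Finite.exists_fin' A (P ⧸ (I 1 • (⊤ : Submodule A P)))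
  obtain ⟨u, hu⟩ := Module.projective_lifting_property
    (Submodule.mkQ (I 1 • (⊤ : Submodule A P))) q (Submodule.mkQ_surjective _)
  have h1 : ∀ x : P, ∃ l, x - u l ∈ (I 1 • (⊤ : Submodule A P)) := by
    intro x
    obtain ⟨l, hl⟩ := hq (Submodule.Quotient.mk x)
    refine ⟨l, ?_⟩
    rw [← Submodule.Quotient.eq, ← hl, ← hu]
    rfl
  have h2 : ∀ k : ℕ, ∀ x : P, ∃ l, x - u l ∈ (I 1 ^ k • (⊤ : Submodule A P)) := by
    intro k
    induction k with
    | zero => intro x; exact ⟨0, by simp⟩
    | succ k ih =>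
      intro x
      obtain ⟨l, hl⟩ := ih x
      have h4 : ∀ w ∈ I 1 ^ k • (⊤ : Submodule A P), ∃ l,
          w - u l ∈ I 1 ^ (k + 1) • (⊤ : Submodule A P) := by
        intro w hw
        refine Submodule.smul_induction_on hw ?_ ?_
        · intro r hr v _
          obtain ⟨l', hl'⟩ := h1 v
          refine ⟨r • l', ?_⟩
          rw [map_smul, ← smul_sub, pow_succ, Submodule.mul_smul]
          exact Submodule.smul_mem_smul hr hl'
        · rintro v w ⟨l1, h5⟩ ⟨l2, h6⟩
          refine ⟨l1 + l2, ?_⟩
          have : v + w - u (l1 + l2) = (v - u l1) + (w - u l2) := by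
            rw [map_add]; abel
          rw [this]
          exact Submodule.add_mem _ h5 h6
      obtain ⟨l', hl'⟩ := h4 _ hl
      refine ⟨l + l', ?_⟩
      have : x - u (l + l') = x - u l - u l' := by rw [map_add]; abel
      rw [this]
      exact hl'
  have hsurj : ∀ n, Function.Surjective (redMap I u n) := by
    intro n x
    obtain ⟨y, rfl⟩ := Submodule.Quotient.mk_surjective _ x
    obtain ⟨k, hk⟩ := hnil n
    obtain ⟨l, hl⟩ := h2 k y
    refine ⟨Submodule.Quotient.mk l, ?_⟩
    rw [redMap_mk, eq_comm, Submodule.Quotient.eq]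
    exact Submodule.smul_mono hk le_rfl hl
  -- compatible sections
  let X : ℕ → Type _ := fun n => {s : P →ₗ[A] ((Fin m → A) ⧸ (I n • ⊤ : Submodule A (Fin m → A))) //
    redMap I u n ∘ₗ s = Submodule.mkQ _}
  have h0 : Nonempty (X 0) := by
    obtain ⟨t, ht⟩ := exists_lift_of_projective_quot (I 0) (redMap I u 0) (hsurj 0)
      (smul_quot_eq_zero (L := Fin m → A) (I 0)) (Submodule.mkQ (I 0 • ⊤ : Submodule A P))
    exact ⟨⟨t, ht⟩⟩
  have hstep : ∀ n (s : X n), ∃ s' : X (n + 1), trans I hI (Fin m → A) n ∘ₗ s'.1 = s.1 := by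
    intro n s
    obtain ⟨s', h3, h4⟩ := exists_section_succ I u hI n (hsurj (n + 1)) s.1 s.2
    exact ⟨⟨s', h3⟩, h4⟩
  choose next hnext using hstep
  let s : ∀ n, X n := fun n => Nat.rec h0.some (fun n x => next n x) n
  have hs : ∀ n, trans I hI (Fin m → A) n ∘ₗ (s (n + 1)).1 = (s n).1 := fun n => hnext n (s n)
  have hs1 : ∀ n x, trans I hI (Fin m → A) n ((s (n + 1)).1 x) = (s n).1 x :=
    fun n x => LinearMap.congr_fun (hs n) x
  have hs2 : ∀ n x, redMap I u n ((s n).1 x) = Submodule.Quotient.mk x :=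
    fun n x => LinearMap.congr_fun (s n).2 x
  -- the limit
  have hlim : ∀ x : P, ∃ l : Fin m → A, ∀ n, Submodule.Quotient.mk l = (s n).1 x := by
    intro x
    choose l hl using fun n => Submodule.Quotient.mk_surjective _ ((s n).1 x)
    have h5 : ∀ n, l (n + 1) - l n ∈ (I n • ⊤ : Submodule A (Fin m → A)) := by
      intro n
      rw [← Submodule.Quotient.eq, hl n, ← hs1, ← hl (n + 1)]
      rfl
    have h6 : ∀ j : Fin m, ∃ a : A, ∀ n, a - l n j ∈ I n := by
      intro j
      refine hcomplete (fun n => l n j) fun n => ?_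
      exact (mem_smul_top_pi_iff (I n) _).mp (h5 n) j
    choose a ha using h6
    refine ⟨a, fun n => ?_⟩
    rw [← hl n, Submodule.Quotient.eq, mem_smul_top_pi_iff]
    exact fun j => ha j n
  have huniq : ∀ l l' : Fin m → A,
      (∀ n, (Submodule.Quotient.mk l : (Fin m → A) ⧸ (I n • ⊤ : Submodule A (Fin m → A))) =
        Submodule.Quotient.mk l') → l = l' := by
    intro l l' h
    ext j
    rw [← sub_eq_zero]
    apply hsep
    intro n
    have := h n
    rw [Submodule.Quotient.eq, mem_smul_top_pi_iff] at this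
    exact this j
  choose S hS using hlim
  let S' : P →ₗ[A] (Fin m → A) :=
    { toFun := S
      map_add' := fun x y => huniq _ _ fun n => by
        rw [hS, map_add, Submodule.Quotient.mk_add, hS, hS]
      map_smul' := fun a x => huniq _ _ fun n => by
        rw [hS, map_smul, RingHom.id_apply, Submodule.Quotient.mk_smul, hS] }
  have hid : u ∘ₗ S' = LinearMap.id := by
    apply LinearMap.ext
    intro x
    rw [LinearMap.comp_apply, LinearMap.id_apply, ← sub_eq_zero, ← Submodule.mem_bot A, ← hP,
      Submodule.mem_iInf]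
    intro n
    rw [← Submodule.Quotient.eq]
    show redMap I u n (Submodule.Quotient.mk (S x)) = Submodule.Quotient.mk x
    rw [hS, hs2]
  refine ⟨?_, Module.Projective.of_split S' u hid⟩
  refine Module.Finite.of_surjective u fun x => ⟨S' x, ?_⟩
  exact LinearMap.congr_fun hid x

theorem finite_and_projective_iff (hI : ∀ n, I (n + 1) ≤ I n)
    (hsep : ∀ a : A, (∀ n, a ∈ I n) → a = 0)
    (hcomplete : ∀ x : ℕ → A, (∀ n, x (n + 1) - x n ∈ I n) → ∃ l : A, ∀ n, l - x n ∈ I n)
    (hnil : ∀ n, ∃ k, I 1 ^ k ≤ I n)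
    (P : Type v) [AddCommGroup P] [Module A P] :
    (Module.Finite A P ∧ Module.Projective A P) ↔
      ((⨅ n : ℕ, (I n • (⊤ : Submodule A P))) = ⊥ ∧
        ∀ n : ℕ, Module.Finite (A ⧸ I n) (P ⧸ (I n • (⊤ : Submodule A P))) ∧
          Module.Projective (A ⧸ I n) (P ⧸ (I n • (⊤ : Submodule A P)))) := by
  constructor
  · rintro ⟨_, _⟩
    exact separated_and_finite_projective I hsep P
  · rintro ⟨h1, h2⟩
    exact finite_and_projective I hI hsep hcomplete hnil P h1 (fun n => (h2 n).1)
      (fun n => (h2 n).2)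

end K86.FiltProj
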