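import Mathlib.RingTheory.Localization.AtPrime.Basic
import Mathlib.RingTheory.Localization.Away.Basic
import Mathlib.RingTheory.Spectrum.Prime.Basic
import Mathlib.RingTheory.Nilpotent.Lemmas

/-!
# Localizing at a prime of a ring with finite spectrum

If `B` has finitely many prime ideals then the localization at a prime is the localization at one
element.
-/

set_option autoImplicit false

namespace K86.FinSpecLoc

/-- If a ring has finitely many primes not contained in `P`, then the localization at `P` is a
localization away from one element. -/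
theorem exists_away {B : Type*} [CommRing B] [Finite (PrimeSpectrum B)] (P : Ideal B) [P.IsPrime] :
    ∃ f : B, f ∉ P ∧ ∀ (S : Type _) [CommRing S] [Algebra B S] [IsLocalization.AtPrime S P],
      IsLocalization.Away f S := by
  classical
  have hfin := Fintype.ofFinite (PrimeSpectrum B)
  have h1 : ∀ q : PrimeSpectrum B, ∃ f : B, f ∉ P ∧ (¬ q.asIdeal ≤ P → f ∈ q.asIdeal) := by
    intro q
    by_cases hq : q.asIdeal ≤ P
    · exact ⟨1, (Ideal.ne_top_iff_one P).mp (Ideal.IsPrime.ne_top ‹_›), fun h => absurd hq h⟩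
    · obtain ⟨f, hf1, hf2⟩ := Set.not_subset.mp hq
      exact ⟨f, hf2, fun _ => hf1⟩
  choose f hf1 hf2 using h1
  refine ⟨∏ q, f q, ?_, ?_⟩
  · intro h
    obtain ⟨q, _, hq⟩ := (Ideal.IsPrime.prod_mem_iff (hp := ‹P.IsPrime›)).mp h
    exact hf1 q hq
  · intro S _ _ _
    set g := ∏ q, f q with hg
    have hgP : g ∉ P := by
      intro h
      obtain ⟨q, _, hq⟩ := (Ideal.IsPrime.prod_mem_iff (hp := ‹P.IsPrime›)).mp h
      exact hf1 q hq
    have hdvd : ∀ s ∈ P.primeCompl, ∃ m ∈ Submonoid.powers g, s ∣ m := by
      intro s hs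
      have hrad : g ∈ (Ideal.span {s}).radical := by
        rw [Ideal.radical_eq_sInf, Ideal.mem_sInf]
        rintro q ⟨hq1, hq2⟩
        have hqs : s ∈ q := hq1 (Ideal.mem_span_singleton_self s)
        have hnle : ¬ q ≤ P := fun h => hs (h hqs)
        have h3 : f ⟨q, hq2⟩ ∈ q := hf2 ⟨q, hq2⟩ hnle
        exact Ideal.mem_of_dvd q (Finset.dvd_prod_of_mem f (Finset.mem_univ _)) h3
      obtain ⟨n, hn⟩ := hrad
      exact ⟨g ^ n, ⟨n, rfl⟩, Ideal.mem_span_singleton.mp hn⟩
    have hle : Submonoid.powers g ≤ P.primeCompl := by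
      rintro _ ⟨n, rfl⟩
      exact P.primeCompl.pow_mem hgP n
    have h2 : IsLocalization P.primeCompl (Localization.Away g) :=
      IsLocalization.of_le_of_exists_dvd (Submonoid.powers g) P.primeCompl hle hdvd
    exact IsLocalization.isLocalization_of_algEquiv (Submonoid.powers g)
      (IsLocalization.algEquiv P.primeCompl (Localization.Away g) S)

end K86.FinSpecLoc
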