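import Mathlib.GroupTheory.MonoidLocalization.GrothendieckGroup
import Mathlib.LinearAlgebra.TensorPower.Basic
import Mathlib.LinearAlgebra.PiTensorProduct.Basic
import Mathlib.Algebra.Polynomial.AlgebraMap
import Mathlib.RingTheory.TensorProduct.Finite
import Mathlib.LinearAlgebra.TensorProduct.Pi
import Mathlib.RingTheory.Finiteness.Prod
import Mathlib.RingTheory.Finiteness.Projective
import Mathlib.RingTheory.Finiteness.Cardinality
import Mathlib.LinearAlgebra.DFinsupp
import Groth.Agent.CAlg.K86.MatFac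

/-!
# The monoid of isomorphism classes of finite projective modules
-/

set_option autoImplicit false

universe u

open TensorProduct Polynomial

namespace K86.KZero

variable (R : Type u) [CommRing R]

/-- A finite projective module. -/
structure FGP where
  /-- the module -/
  carrier : Type u
  [addCommGroup : AddCommGroup carrier]
  [module : Module R carrier]
  [finite : Module.Finite R carrier]
  [projective : Module.Projective R carrier]

attribute [instance] FGP.addCommGroup FGP.module FGP.finite FGP.projective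

/-- isomorphism -/
instance setoid : Setoid (FGP R) where
  r A B := Nonempty (A.carrier ≃ₗ[R] B.carrier)
  iseqv := ⟨fun _ => ⟨LinearEquiv.refl _ _⟩, fun ⟨e⟩ => ⟨e.symm⟩, fun ⟨e⟩ ⟨e'⟩ => ⟨e.trans e'⟩⟩

/-- isomorphism classes of finite projective modules -/
def K : Type (u + 1) := Quotient (setoid R)

variable {R}

/-- the class of a module -/
def cls (M : Type u) [AddCommGroup M] [Module R M] [Module.Finite R M] [Module.Projective R M] :
    K R := Quotient.mk (setoid R) ⟨M⟩

theorem cls_eq_iff {M N : Type u} [AddCommGroup M] [Module R M] [Module.Finite R M]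
    [Module.Projective R M] [AddCommGroup N] [Module R N] [Module.Finite R N]
    [Module.Projective R N] : (cls M : K R) = cls N ↔ Nonempty (M ≃ₗ[R] N) :=
  Quotient.eq (r := setoid R)

theorem exists_cls (x : K R) : ∃ A : FGP R, x = cls A.carrier := by
  obtain ⟨A, rfl⟩ := Quotient.exists_rep x
  exact ⟨A, rfl⟩

instance : Add (K R) where
  add := Quotient.map₂ (fun A B => ⟨A.carrier × B.carrier⟩)
    (fun _ _ ⟨e⟩ _ _ ⟨e'⟩ => ⟨e.prodCongr e'⟩)

instance : Zero (K R) := ⟨cls PUnit⟩

/-- finite powers of projective modules are projective -/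
instance projective_pi (n : ℕ) (M : Type*) [AddCommGroup M] [Module R M] [Module.Projective R M] :
    Module.Projective R (Fin n → M) :=
  Module.Projective.of_equiv (DFinsupp.linearEquivFunOnFintype (R := R) (M := fun _ : Fin n => M))

theorem cls_add (M N : Type u) [AddCommGroup M] [Module R M] [Module.Finite R M]
    [Module.Projective R M] [AddCommGroup N] [Module R N] [Module.Finite R N]
    [Module.Projective R N] : (cls M : K R) + cls N = cls (M × N) := rfl

instance : AddCommMonoid (K R) where
  nsmul := nsmulRec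
  add_assoc x y z := by
    obtain ⟨A, rfl⟩ := exists_cls x
    obtain ⟨B, rfl⟩ := exists_cls y
    obtain ⟨C, rfl⟩ := exists_cls z
    rw [cls_add, cls_add, cls_add, cls_add, cls_eq_iff]
    exact ⟨LinearEquiv.prodAssoc R _ _ _⟩
  add_comm x y := by
    obtain ⟨A, rfl⟩ := exists_cls x
    obtain ⟨B, rfl⟩ := exists_cls y
    rw [cls_add, cls_add, cls_eq_iff]
    exact ⟨LinearEquiv.prodComm R _ _⟩
  zero_add x := by
    obtain ⟨A, rfl⟩ := exists_cls x
    show cls PUnit + cls A.carrier = _
    rw [cls_add, cls_eq_iff]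
    exact ⟨LinearEquiv.uniqueProd⟩
  add_zero x := by
    obtain ⟨A, rfl⟩ := exists_cls x
    show cls A.carrier + cls PUnit = _
    rw [cls_add, cls_eq_iff]
    exact ⟨LinearEquiv.prodUnique⟩

theorem cls_subsingleton (M : Type u) [AddCommGroup M] [Module R M] [Module.Finite R M]
    [Module.Projective R M] [Subsingleton M] : (cls M : K R) = 0 := by
  show (cls M : K R) = cls PUnit
  rw [cls_eq_iff]
  exact ⟨LinearEquiv.ofSubsingleton _ _⟩

theorem nsmul_cls (M : Type u) [AddCommGroup M] [Module R M] [Module.Finite R M]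
    [Module.Projective R M] (n : ℕ) : n • (cls M : K R) = cls (Fin n → M) := by
  induction n with
  | zero => rw [zero_smul, cls_subsingleton]
  | succ n ih =>
    rw [succ_nsmul, ih, cls_add, cls_eq_iff]
    exact ⟨(LinearEquiv.prodComm R _ _).trans (Fin.consLinearEquiv R (fun _ => M))⟩

/-- tensoring with a fixed module -/
def tens (P : Type u) [AddCommGroup P] [Module R P] [Module.Finite R P]
    [Module.Projective R P] : K R →+ K R where
  toFun := Quotient.map (fun A => ⟨A.carrier ⊗[R] P⟩)
    (fun _ _ ⟨e⟩ => ⟨TensorProduct.congr e (LinearEquiv.refl R P)⟩)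
  map_zero' := by
    show (cls (PUnit ⊗[R] P) : K R) = _
    rw [cls_subsingleton]
  map_add' x y := by
    obtain ⟨A, rfl⟩ := exists_cls x
    obtain ⟨B, rfl⟩ := exists_cls y
    show (cls ((A.carrier × B.carrier) ⊗[R] P) : K R) = cls (A.carrier ⊗[R] P) +
      cls (B.carrier ⊗[R] P)
    rw [cls_add, cls_eq_iff]
    exact ⟨TensorProduct.prodLeft R R A.carrier B.carrier P⟩

theorem tens_cls (P : Type u) [AddCommGroup P] [Module R P] [Module.Finite R P]
    [Module.Projective R P] (M : Type u) [AddCommGroup M] [Module R M] [Module.Finite R M]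
    [Module.Projective R M] : tens P (cls M : K R) = cls (M ⊗[R] P) := rfl

/-- The Grothendieck group. -/
abbrev G (R : Type u) [CommRing R] : Type (u + 1) := Algebra.GrothendieckAddGroup (K R)

/-- The class in the Grothendieck group. -/
noncomputable abbrev of : K R →+ G R := Algebra.GrothendieckAddGroup.of

theorem exists_add_eq_nsmul (x : K R) : ∃ (y : K R) (q : ℕ), x + y = q • cls R := by
  obtain ⟨C, rfl⟩ := exists_cls x
  obtain ⟨q, f, g, hf, hg, hfg⟩ := Module.Finite.exists_comp_eq_id_of_projective R C.carrier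
  have hfg' : ∀ c, f (g c) = c := LinearMap.congr_fun hfg
  let π : (Fin q → R) →ₗ[R] LinearMap.ker f :=
    (LinearMap.id - g ∘ₗ f).codRestrict (LinearMap.ker f) (fun x => by
      rw [LinearMap.mem_ker]
      show f (x - g (f x)) = 0
      rw [map_sub, hfg', sub_self])
  have hπ : ∀ k : LinearMap.ker f, π k = k := fun k => by
    apply Subtype.ext
    show (k : Fin q → R) - g (f k) = k
    rw [LinearMap.mem_ker.mp k.2, map_zero, sub_zero]
  have : Module.Finite R (LinearMap.ker f) :=
    Module.Finite.of_surjective π (fun k => ⟨k, hπ k⟩)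
  have : Module.Projective R (LinearMap.ker f) :=
    Module.Projective.of_split (LinearMap.ker f).subtype π (LinearMap.ext hπ)
  refine ⟨cls (LinearMap.ker f), q, ?_⟩
  rw [nsmul_cls, cls_add, cls_eq_iff]
  refine ⟨(LinearEquiv.ofLinearMap (LinearMap.prod f π)
    (LinearMap.coprod g (LinearMap.ker f).subtype) ?_ ?_).symm⟩
  · apply LinearMap.ext
    rintro ⟨c, k⟩
    have h1 : f (g c + k) = c := by
      rw [map_add, hfg', LinearMap.mem_ker.mp k.2, add_zero]
    have h2 : π (g c + k) = k := by
      apply Subtype.ext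
      show (g c + k) - g (f (g c + k)) = k
      rw [h1]
      abel
    show (f (g c + k), π (g c + k)) = (c, k)
    rw [h1, h2]
  · apply LinearMap.ext
    intro x
    show g (f x) + (x - g (f x)) = x
    abel

theorem of_eq_of {x y : K R} (h : of x = of y) : ∃ c : K R, c + x = c + y := by
  obtain ⟨c, hc⟩ := (AddLocalization.addMonoidOf (⊤ : AddSubmonoid (K R))).eq_iff_exists.mp h
  exact ⟨c, hc⟩

/-- the unit -/
noncomputable def one (R : Type u) [CommRing R] : G R := of (cls R : K R)

section

variable (P : Type u) [AddCommGroup P] [Module R P] [Module.Finite R P] [Module.Projective R P]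

/-- multiplication by the class of `P` -/
noncomputable def mulP : AddMonoid.End (G R) :=
  Algebra.GrothendieckAddGroup.lift (of.comp (tens P))

theorem mulP_of (x : K R) : mulP P (of x) = of (tens P x) :=
  DFunLike.congr_fun (Algebra.GrothendieckAddGroup.lift.symm_apply_apply (of.comp (tens P))) x

/-- `[P] - r` -/
noncomputable def dP (r : ℕ) : AddMonoid.End (G R) := mulP P - (r : AddMonoid.End (G R))

theorem dP_apply (r : ℕ) (g : G R) : dP P r g = mulP P g - r • g := by
  show mulP P g - (r : AddMonoid.End (G R)) g = _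
  rw [AddMonoid.End.natCast_apply]

theorem cls_tensor_pi (M : Type u) [AddCommGroup M] [Module R M] [Module.Finite R M]
    [Module.Projective R M] (r : ℕ) : (cls (M ⊗[R] (Fin r → R)) : K R) = r • cls M := by
  rw [nsmul_cls, cls_eq_iff]
  exact ⟨TensorProduct.piScalarRight R R M (Fin r)⟩

theorem tens_self : tens P (cls R : K R) = cls P := by
  rw [tens_cls, cls_eq_iff]
  exact ⟨TensorProduct.lid R P⟩

theorem exists_mf_sum {ι : Type*} (r : ℕ) (s : ι → R) (T : Finset ι)
    (h : ∀ i ∈ T, MatFac.MF (s i) P (Fin r → R)) :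
    ∃ A B : FGP R, MatFac.MF (∑ i ∈ T, s i) A.carrier B.carrier ∧
      of (cls A.carrier : K R) - of (cls B.carrier : K R) =
        (dP P r ^ T.card : AddMonoid.End (G R)) (one R) := by
  classical
  induction T using Finset.induction_on with
  | empty =>
    refine ⟨⟨R⟩, ⟨PUnit⟩, ?_, ?_⟩
    · rw [Finset.sum_empty]
      exact MatFac.MF.zero
    · show of (cls R : K R) - of (cls PUnit : K R) = _
      rw [cls_subsingleton PUnit, map_zero, sub_zero]
      rfl
  | insert i T hi ih =>
    obtain ⟨A, B, h1, h2⟩ := ih (fun j hj => h j (Finset.mem_insert_of_mem hj))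
    have h3 := h i (Finset.mem_insert_self _ _)
    refine ⟨⟨(A.carrier ⊗[R] P) × (B.carrier ⊗[R] (Fin r → R))⟩,
      ⟨(B.carrier ⊗[R] P) × (A.carrier ⊗[R] (Fin r → R))⟩, ?_, ?_⟩
    · rw [Finset.sum_insert hi, add_comm]
      exact h1.tensor h3
    · rw [Finset.card_insert_of_notMem hi, pow_succ']
      show of (cls ((A.carrier ⊗[R] P) × (B.carrier ⊗[R] (Fin r → R))) : K R) -
        of (cls ((B.carrier ⊗[R] P) × (A.carrier ⊗[R] (Fin r → R))) : K R) =
        dP P r ((dP P r ^ T.card : AddMonoid.End (G R)) (one R))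
      rw [← h2, ← cls_add, ← cls_add, cls_tensor_pi, cls_tensor_pi, ← tens_cls P, ← tens_cls P,
        map_add, map_add, ← mulP_of, ← mulP_of, map_nsmul, map_nsmul, dP_apply, map_sub, smul_sub]
      abel

theorem exists_nilpotent (r : ℕ) (hr : ∀ p, Module.rankAtStalk (R := R) P p = r) :
    ∃ k : ℕ, (dP P r ^ k : AddMonoid.End (G R)) (one R) = 0 := by
  classical
  let s : PrimeSpectrum R → R := fun p => (MatFac.exists_mf_of_rank P p (hr p)).choose
  have hs : ∀ p, s p ∉ p.asIdeal ∧ MatFac.MF (s p) P (Fin r → R) := fun p =>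
    (MatFac.exists_mf_of_rank P p (hr p)).choose_spec
  have h1 : Ideal.span (Set.range s) = ⊤ := by
    by_contra hne
    obtain ⟨m, hm, hle⟩ := Ideal.exists_le_maximal _ hne
    exact (hs ⟨m, hm.isPrime⟩).1 (hle (Ideal.subset_span ⟨_, rfl⟩))
  have h2 : (1 : R) ∈ Ideal.span (Set.range s) := by rw [h1]; trivial
  rw [Ideal.span, Finsupp.mem_span_range_iff_exists_finsupp] at h2
  obtain ⟨c, hc⟩ := h2
  obtain ⟨A, B, h3, h4⟩ := exists_mf_sum P r (fun p => c p * s p) c.support
    (fun p _ => (hs p).2.smul (c p))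
  refine ⟨c.support.card, ?_⟩
  rw [← h4, sub_eq_zero]
  have h5 : ∑ p ∈ c.support, c p * s p = 1 := hc
  rw [h5] at h3
  obtain ⟨e⟩ := h3.equiv
  rw [cls_eq_iff.mpr ⟨e⟩]

/-- the annihilator of the unit -/
noncomputable def J : Ideal ℤ[X] where
  carrier := {F | (aeval (mulP P) F) (one R) = 0}
  add_mem' {a b} ha hb := by
    show (aeval (mulP P) (a + b)) (one R) = 0
    rw [map_add]
    show (aeval (mulP P) a) (one R) + (aeval (mulP P) b) (one R) = 0
    rw [show (aeval (mulP P) a) (one R) = 0 from ha,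
      show (aeval (mulP P) b) (one R) = 0 from hb, add_zero]
  zero_mem' := by
    show (aeval (mulP P) (0 : ℤ[X])) (one R) = 0
    rw [map_zero]
    rfl
  smul_mem' c a ha := by
    show (aeval (mulP P) (c * a)) (one R) = 0
    rw [map_mul]
    show (aeval (mulP P) c) ((aeval (mulP P) a) (one R)) = 0
    rw [show (aeval (mulP P) a) (one R) = 0 from ha, map_zero]

theorem mem_J {F : ℤ[X]} : F ∈ J (R := R) P ↔ (aeval (mulP P) F) (one R) = 0 := Iff.rfl

/-- iterated tensor powers -/
noncomputable def T : ℕ → FGP R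
  | 0 => ⟨R⟩
  | n + 1 => ⟨(T n).carrier ⊗[R] P⟩

theorem mulP_pow (n : ℕ) : (mulP P ^ n : AddMonoid.End (G R)) (one R) =
    of (cls (T (R := R) P n).carrier : K R) := by
  induction n with
  | zero => rfl
  | succ n ih =>
    rw [pow_succ']
    show mulP P ((mulP P ^ n : AddMonoid.End (G R)) (one R)) = _
    rw [ih, mulP_of]
    rfl

theorem rankAtStalk_T [Nontrivial R] (n : ℕ) (p : PrimeSpectrum R) :
    Module.rankAtStalk (R := R) (T (R := R) P n).carrier p =
      (Module.rankAtStalk (R := R) P p) ^ n := by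
  induction n with
  | zero =>
    show Module.rankAtStalk (R := R) R p = _
    rw [Module.rankAtStalk_self, pow_zero]
    rfl
  | succ n ih =>
    show Module.rankAtStalk (R := R) ((T (R := R) P n).carrier ⊗[R] P) p = _
    rw [Module.rankAtStalk_tensorProduct, Pi.mul_apply, ih, pow_succ]

theorem tensorPower_equiv (n : ℕ) :
    Nonempty (TensorPower R n P ≃ₗ[R] (T (R := R) P n).carrier) := by
  induction n with
  | zero => exact ⟨PiTensorProduct.isEmptyEquiv (Fin 0)⟩
  | succ n ih =>
    obtain ⟨e⟩ := ih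
    have e1 : TensorPower R 1 P ≃ₗ[R] P :=
      PiTensorProduct.subsingletonEquiv (R := R) (s := fun _ : Fin 1 => P) (0 : Fin 1)
    exact ⟨(TensorPower.mulEquiv (R := R) (M := P) (n := n) (m := 1)).symm.trans
      (TensorProduct.congr e e1)⟩

/-- The class of `P` is rationally trivial. -/
theorem exists_torsion (r n : ℕ) (hr0 : r ≠ 0) (hn : n ≠ 0)
    (hr : ∀ p, Module.rankAtStalk (R := R) P p = r)
    (hfree : Nonempty (TensorPower R n P ≃ₗ[R] (Fin (r ^ n) → R))) :
    ∃ M q : ℕ, M ≠ 0 ∧ M • (cls P : K R) + q • cls R = (M * r + q) • cls R := by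
  obtain ⟨k, hk⟩ := exists_nilpotent P r hr
  obtain ⟨e⟩ := hfree
  obtain ⟨e'⟩ := tensorPower_equiv (R := R) P n
  have h1 : (X - (r : ℤ[X])) ^ k ∈ J (R := R) P := by
    rw [mem_J, map_pow, map_sub, aeval_X, map_natCast]
    exact hk
  have h2 : ((r : ℤ[X]) + (X - (r : ℤ[X]))) ^ n - (r : ℤ[X]) ^ n ∈ J (R := R) P := by
    rw [add_sub_cancel, mem_J, map_sub, map_pow, aeval_X, ← Nat.cast_pow, map_natCast]
    show (mulP P ^ n : AddMonoid.End (G R)) (one R) -
      ((r ^ n : ℕ) : AddMonoid.End (G R)) (one R) = 0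
    rw [mulP_pow, AddMonoid.End.natCast_apply, one, ← map_nsmul, nsmul_cls, sub_eq_zero,
      cls_eq_iff.mpr ⟨e'.symm.trans e⟩]
  obtain ⟨M, hM, h3⟩ := MatFac.exists_mul_mem (J (R := R) P) _ r n k hr0 hn h1 h2
  rw [mem_J, map_mul, map_natCast, map_sub, aeval_X, map_natCast] at h3
  have h4 : (M : AddMonoid.End (G R)) (dP P r (one R)) = 0 := h3
  rw [AddMonoid.End.natCast_apply, dP_apply, one, mulP_of, tens_self, ← map_nsmul, smul_sub,
    ← map_nsmul, ← map_nsmul, smul_smul, sub_eq_zero] at h4
  obtain ⟨c, hc⟩ := of_eq_of h4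
  obtain ⟨y, q, hy⟩ := exists_add_eq_nsmul c
  refine ⟨M, q, hM, ?_⟩
  have h5 := congrArg (fun z => y + z) hc
  simp only [← add_assoc, add_comm y c, hy] at h5
  rw [add_smul, add_comm, h5, add_comm]

end

end K86.KZero
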