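import Mathlib.Algebra.CharP.Lemmas
import Mathlib.Data.Nat.Multiplicity
import Mathlib.Algebra.Polynomial.Monic
import Mathlib.Algebra.Polynomial.AlgebraMap
import Mathlib.RingTheory.IntegralClosure.IsIntegral.Basic
import Mathlib.RingTheory.IntegralClosure.Algebra.Basic
import Mathlib.RingTheory.Ideal.Quotient.Operations
import Mathlib.NumberTheory.Padics.PadicVal.Basic

/-!
# Kummer-to-Artin–Schreier–Witt polynomials `((1 + π^i T)^{p^n} - 1)/π^{i p^n}`
-/

set_option autoImplicit false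
universe u

open Polynomial

namespace K86.Kummer

/-- valuations of binomial coefficients of a prime power -/
theorem pow_dvd_choose {p n k : ℕ} (hp : p.Prime) (hk0 : k ≠ 0) (hk : k ≤ p ^ n) :
    ∃ v ≤ n, p ^ v ≤ k ∧ p ^ (n - v) ∣ (p ^ n).choose k := by
  have hp1 := hp.one_lt
  obtain ⟨v, m, hm, hkm⟩ := Nat.exists_eq_pow_mul_and_not_dvd hk0 p hp.ne_one
  have hm0 : m ≠ 0 := by
    rintro rfl
    simp at hm
  have hvk : p ^ v ≤ k := by
    rw [hkm]
    exact Nat.le_mul_of_pos_right _ (Nat.pos_of_ne_zero hm0)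
  have hvn : v ≤ n := (Nat.pow_le_pow_iff_right hp1).mp (hvk.trans hk)
  refine ⟨v, hvn, hvk, ?_⟩
  obtain ⟨k', rfl⟩ := Nat.exists_eq_succ_of_ne_zero hk0
  obtain ⟨N', hN'⟩ := Nat.exists_eq_succ_of_ne_zero (pow_pos hp.pos n).ne'
  have h1 := Nat.add_one_mul_choose_eq N' k'
  rw [Nat.succ_eq_add_one] at hkm hN'
  rw [Nat.succ_eq_add_one]
  rw [← hN', hkm] at h1
  -- p^n * C(N', k') = C * (p^v * m)
  have h2 : p ^ v * (p ^ (n - v) * N'.choose k') = p ^ v * ((p ^ n).choose (p ^ v * m) * m) := by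
    rw [← mul_assoc, ← pow_add, Nat.add_sub_cancel' hvn, h1]
    ring
  have h3 := Nat.eq_of_mul_eq_mul_left (pow_pos hp.pos v) h2
  rw [hkm]
  refine (Nat.Coprime.dvd_of_dvd_mul_right ?_ (Dvd.intro _ h3))
  exact Nat.Coprime.pow_left _ ((Nat.Prime.coprime_iff_not_dvd hp).mpr hm)

theorem pow_le_aux {p : ℕ} (hp : 1 ≤ p) (v : ℕ) : ∀ d : ℕ,
    p ^ (v + d) ≤ p ^ v + d * (p ^ (v + d - 1) * (p - 1))
  | 0 => by simp
  | d + 1 => by
    have h1 := pow_le_aux hp v d
    have h2 : p ^ (v + d - 1) ≤ p ^ (v + d) := Nat.pow_le_pow_right hp (by omega)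
    have h3 : v + (d + 1) - 1 = v + d := by omega
    rw [h3]
    have h4 : p ^ (v + (d + 1)) = p ^ (v + d) + p ^ (v + d) * (p - 1) := by
      obtain ⟨p', rfl⟩ := Nat.exists_eq_add_of_le hp
      rw [show 1 + p' - 1 = p' by omega, ← add_assoc, pow_succ]
      ring
    rw [h4]
    calc p ^ (v + d) + p ^ (v + d) * (p - 1)
        ≤ (p ^ v + d * (p ^ (v + d - 1) * (p - 1))) + p ^ (v + d) * (p - 1) := by omega
      _ ≤ (p ^ v + d * (p ^ (v + d) * (p - 1))) + p ^ (v + d) * (p - 1) := by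
          gcongr
      _ = p ^ v + (d + 1) * (p ^ (v + d) * (p - 1)) := by ring

theorem pow_le_aux' {p : ℕ} (hp : 1 ≤ p) {v n : ℕ} (hv : v ≤ n) :
    p ^ n ≤ p ^ v + (n - v) * (p ^ (n - 1) * (p - 1)) := by
  have h := pow_le_aux hp v (n - v)
  rwa [Nat.add_sub_cancel' hv] at h

section

variable {A : Type*} [CommRing A]

theorem dvd_choose {p n j : ℕ} (hp : p.Prime) (a : A)
    (hj : a ^ (p ^ (n - 1) * (p - 1) * (j + 1)) ∣ (p : A)) {k : ℕ} (hk0 : k ≠ 0)
    (hk : k ≤ p ^ n) {i : ℕ} (hi : i ≤ j + 1) :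
    a ^ (i * (p ^ n - k)) ∣ ((p ^ n).choose k : A) := by
  obtain ⟨v, hvn, hvk, hdvd⟩ := pow_dvd_choose hp hk0 hk
  have h1 := pow_le_aux' hp.one_lt.le hvn
  have h2 : i * (p ^ n - k) ≤ p ^ (n - 1) * (p - 1) * (j + 1) * (n - v) := by
    calc i * (p ^ n - k) ≤ (j + 1) * ((n - v) * (p ^ (n - 1) * (p - 1))) :=
          Nat.mul_le_mul hi (by omega)
      _ = _ := by ring
  calc a ^ (i * (p ^ n - k)) ∣ a ^ (p ^ (n - 1) * (p - 1) * (j + 1) * (n - v)) := pow_dvd_pow _ h2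
    _ = (a ^ (p ^ (n - 1) * (p - 1) * (j + 1))) ^ (n - v) := by rw [pow_mul]
    _ ∣ (p : A) ^ (n - v) := pow_dvd_pow_of_dvd hj _
    _ = ((p ^ (n - v) : ℕ) : A) := by rw [Nat.cast_pow]
    _ ∣ _ := Nat.cast_dvd_cast hdvd

theorem dvd_choose' {p n j : ℕ} (hp : p.Prime) (a : A)
    (hj : a ^ (p ^ (n - 1) * (p - 1) * (j + 1)) ∣ (p : A)) {k : ℕ} (hk0 : k ≠ 0)
    (hk : k < p ^ n) :
    a ^ (j * (p ^ n - k)) * a ∣ ((p ^ n).choose k : A) := by
  obtain ⟨v, hvn, hvk, hdvd⟩ := pow_dvd_choose hp hk0 hk.le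
  have h1 := pow_le_aux' hp.one_lt.le hvn
  have hvn' : v < n := (Nat.pow_lt_pow_iff_right hp.one_lt).mp (hvk.trans_lt hk)
  have h3 : 1 ≤ p ^ (n - 1) * (p - 1) * (n - v) := by
    have := hp.one_lt
    exact Nat.mul_pos (Nat.mul_pos (pow_pos hp.pos _) (by omega)) (by omega)
  have h2 : j * (p ^ n - k) + 1 ≤ p ^ (n - 1) * (p - 1) * (j + 1) * (n - v) := by
    calc j * (p ^ n - k) + 1 ≤ j * ((n - v) * (p ^ (n - 1) * (p - 1))) +
          p ^ (n - 1) * (p - 1) * (n - v) :=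
          Nat.add_le_add (Nat.mul_le_mul le_rfl (by omega)) h3
      _ = _ := by ring
  calc a ^ (j * (p ^ n - k)) * a = a ^ (j * (p ^ n - k) + 1) := (pow_succ _ _).symm
    _ ∣ a ^ (p ^ (n - 1) * (p - 1) * (j + 1) * (n - v)) := pow_dvd_pow _ h2
    _ = (a ^ (p ^ (n - 1) * (p - 1) * (j + 1))) ^ (n - v) := by rw [pow_mul]
    _ ∣ (p : A) ^ (n - v) := pow_dvd_pow_of_dvd hj _
    _ = ((p ^ (n - v) : ℕ) : A) := by rw [Nat.cast_pow]
    _ ∣ _ := Nat.cast_dvd_cast hdvd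

theorem expand {N i : ℕ} (hN : 1 ≤ N) (a : A) (c : ℕ → A)
    (hc : ∀ k ∈ Finset.Ico 1 N, (N.choose k : A) = a ^ (i * (N - k)) * c k) (t : A) :
    (1 + a ^ i * t) ^ N = 1 + a ^ (i * N) * (t ^ N + ∑ k ∈ Finset.Ico 1 N, c k * t ^ k) := by
  rw [add_comm 1, add_pow, Finset.sum_range_succ, ← Finset.sum_range_add_sum_Ico _ hN]
  simp only [one_pow, mul_one, Finset.sum_range_one, pow_zero, Nat.choose_zero_right,
    Nat.cast_one, Nat.choose_self]
  have h : ∑ k ∈ Finset.Ico 1 N, (a ^ i * t) ^ k * (N.choose k : A) =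
      a ^ (i * N) * ∑ k ∈ Finset.Ico 1 N, c k * t ^ k := by
    rw [Finset.mul_sum]
    refine Finset.sum_congr rfl fun k hk => ?_
    rw [hc k hk, mul_pow, ← pow_mul]
    have h1 : i * N = i * k + i * (N - k) := by
      rw [← Nat.mul_add, Nat.add_sub_cancel' (Finset.mem_Ico.mp hk).2.le]
    rw [h1, pow_add]
    ring
  rw [h, mul_pow, ← pow_mul]
  ring

end

/-- The expansion, with the polynomial part. -/
theorem exists_poly {A : Type*} [CommRing A] {p n j : ℕ} (hp : p.Prime) (a : A)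
    (hj : a ^ (p ^ (n - 1) * (p - 1) * (j + 1)) ∣ (p : A)) {i : ℕ} (hi : i ≤ j + 1) :
    ∃ P : A[X], P.degree < (p ^ n : ℕ) ∧ ∀ (L : Type*) [CommRing L] [Algebra A L] (t : L),
      (1 + algebraMap A L a ^ i * t) ^ (p ^ n) =
        1 + algebraMap A L a ^ (i * p ^ n) * (t ^ (p ^ n) + aeval t P) := by
  classical
  have h1 : ∀ k, ∃ c : A, k ∈ Finset.Ico 1 (p ^ n) →
      ((p ^ n).choose k : A) = a ^ (i * (p ^ n - k)) * c := by
    intro k
    by_cases hk : k ∈ Finset.Ico 1 (p ^ n)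
    · rw [Finset.mem_Ico] at hk
      obtain ⟨c, hc⟩ := dvd_choose hp a hj (k := k) (by omega) hk.2.le hi
      exact ⟨c, fun _ => hc⟩
    · exact ⟨0, fun h => absurd h hk⟩
  choose c hc using h1
  refine ⟨∑ k ∈ Finset.Ico 1 (p ^ n), C (c k) * X ^ k, ?_, ?_⟩
  · refine (degree_sum_le _ _).trans_lt ?_
    rw [Finset.sup_lt_iff (WithBot.bot_lt_coe _)]
    intro k hk
    refine (degree_C_mul_X_pow_le _ _).trans_lt ?_
    exact_mod_cast (Finset.mem_Ico.mp hk).2
  · intro L _ _ t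
    rw [expand (N := p ^ n) (pow_pos hp.pos n) (algebraMap A L a) (fun k => algebraMap A L (c k))
      (fun k hk => ?_) t]
    · simp only [map_sum, map_mul, aeval_C, map_pow, aeval_X]
    · rw [← map_pow, ← map_mul, ← hc k hk, map_natCast]

/-- The expansion at level `j`, modulo `a`. -/
theorem exists_poly' {A : Type*} [CommRing A] {p n j : ℕ} (hp : p.Prime) (a : A)
    (hj : a ^ (p ^ (n - 1) * (p - 1) * (j + 1)) ∣ (p : A)) :
    ∃ P : A[X], P.degree < (p ^ n : ℕ) ∧ ∀ (L : Type u) [CommRing L] [Algebra A L] (t : L),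
      (1 + algebraMap A L a ^ j * t) ^ (p ^ n) =
        1 + algebraMap A L a ^ (j * p ^ n) * (t ^ (p ^ n) + algebraMap A L a * aeval t P) := by
  classical
  have h1 : ∀ k, ∃ c : A, k ∈ Finset.Ico 1 (p ^ n) →
      ((p ^ n).choose k : A) = a ^ (j * (p ^ n - k)) * a * c := by
    intro k
    by_cases hk : k ∈ Finset.Ico 1 (p ^ n)
    · rw [Finset.mem_Ico] at hk
      obtain ⟨c, hc⟩ := dvd_choose' hp a hj (k := k) (by omega) hk.2
      exact ⟨c, fun _ => hc⟩
    · exact ⟨0, fun h => absurd h hk⟩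
  choose c hc using h1
  refine ⟨∑ k ∈ Finset.Ico 1 (p ^ n), C (c k) * X ^ k, ?_, ?_⟩
  · refine (degree_sum_le _ _).trans_lt ?_
    rw [Finset.sup_lt_iff (WithBot.bot_lt_coe _)]
    intro k hk
    refine (degree_C_mul_X_pow_le _ _).trans_lt ?_
    exact_mod_cast (Finset.mem_Ico.mp hk).2
  · intro L _ _ t
    rw [expand (N := p ^ n) (pow_pos hp.pos n) (algebraMap A L a)
      (fun k => algebraMap A L a * algebraMap A L (c k)) (fun k hk => ?_) t]
    · simp only [map_sum, map_mul, aeval_C, map_pow, aeval_X, Finset.mul_sum, mul_assoc]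
    · rw [← mul_assoc, ← map_pow, ← map_mul, ← map_mul, ← hc k hk, map_natCast]

theorem core {A L : Type u} [CommRing A] [CommRing L] [Algebra A L] {p n j : ℕ} (hp : p.Prime)
    (a : A) (hj : a ^ (p ^ (n - 1) * (p - 1) * (j + 1)) ∣ (p : A))
    (hlift : ∀ x : A, IsUnit (Ideal.Quotient.mk (Ideal.span {a}) x) → IsUnit x)
    (f g : Aˣ) (f₀ : A) (hfg : (f : A) * (g : A) ^ (p ^ n) = 1 + a ^ (j * p ^ n) * f₀)
    (haL : IsUnit (algebraMap A L a)) (Z : L) (hZ : Z ^ (p ^ n) = algebraMap A L f)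
    (hred : (Ideal.span {algebraMap A (integralClosure A L) a}).IsRadical)
    (g₀ : A) (h : f₀ - g₀ ^ (p ^ n) ∈ Ideal.span {a}) :
    ∃ (g' : Aˣ) (W : L), IsIntegral A W ∧
      algebraMap A L (f * (g' : A) ^ (p ^ n)) = 1 + (algebraMap A L a) ^ ((j + 1) * p ^ n) * W := by
  have hpa : (p : A) ∈ Ideal.span {a} := by
    rw [Ideal.mem_span_singleton]
    refine (dvd_pow_self a ?_).trans hj
    have := hp.one_lt
    exact (Nat.mul_pos (Nat.mul_pos (pow_pos hp.pos _) (by omega)) (by omega)).ne'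
  have hN : p ^ n ≠ 0 := (pow_pos hp.pos n).ne'
  obtain ⟨P, hPdeg, hP⟩ := exists_poly' (n := n) hp a hj
  obtain ⟨P2, -, hP2⟩ := exists_poly (n := n) hp a hj (i := j + 1) le_rfl
  obtain ⟨ai, hai⟩ := haL.exists_right_inv
  let T : L := ai ^ j * (algebraMap A L g * Z - 1)
  have hT : 1 + algebraMap A L a ^ j * T = algebraMap A L g * Z := by
    show 1 + algebraMap A L a ^ j * (ai ^ j * (algebraMap A L g * Z - 1)) = _
    rw [← mul_assoc, ← mul_pow, hai, one_pow, one_mul]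
    ring
  have hTN : T ^ (p ^ n) + algebraMap A L a * aeval T P = algebraMap A L f₀ := by
    have h1 := hP L T
    rw [hT, mul_pow, hZ, ← map_pow, ← map_mul, mul_comm ((g : A) ^ p ^ n), hfg, map_add, map_one,
      map_mul, map_pow] at h1
    exact ((haL.pow _).mul_left_cancel (add_left_cancel h1)).symm
  have hTint : IsIntegral A T := by
    refine ⟨X ^ (p ^ n) + (C a * P - C f₀), monic_X_pow_add ?_, ?_⟩
    · refine (degree_sub_le _ _).trans_lt (max_lt ?_ ?_)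
      · refine lt_of_le_of_lt ?_ hPdeg
        rw [← smul_eq_C_mul]
        exact degree_smul_le _ _
      · refine degree_C_le.trans_lt ?_
        exact_mod_cast pow_pos hp.pos n
    · rw [← aeval_def]
      simp only [map_add, map_sub, map_mul, map_pow, aeval_X, aeval_C]
      rw [← hTN]
      ring
  let B := integralClosure A L
  let TB : B := ⟨T, hTint⟩
  have hTB : TB ^ (p ^ n) + algebraMap A B a * aeval TB P = algebraMap A B f₀ := by
    apply Subtype.ext
    have h1 : ((aeval TB P : B) : L) = aeval T P := (aeval_algHom_apply B.val TB P).symm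
    show T ^ (p ^ n) + algebraMap A L a * ((aeval TB P : B) : L) = algebraMap A L f₀
    rw [h1, hTN]
  have haB : ∀ x ∈ Ideal.span {a}, algebraMap A B x ∈ Ideal.span {algebraMap A B a} := by
    intro x hx
    obtain ⟨y, rfl⟩ := Ideal.mem_span_singleton'.mp hx
    rw [map_mul]
    exact Ideal.mul_mem_left _ _ (Ideal.mem_span_singleton_self _)
  have hmem : TB - algebraMap A B g₀ ∈ Ideal.span {algebraMap A B a} := by
    apply hred
    refine ⟨p ^ n, ?_⟩
    obtain ⟨r, hr⟩ := exists_add_pow_prime_pow_eq hp (TB - algebraMap A B g₀) (algebraMap A B g₀) n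
    rw [sub_add_cancel] at hr
    have h1 : (TB - algebraMap A B g₀) ^ p ^ n =
        algebraMap A B (f₀ - g₀ ^ (p ^ n)) - algebraMap A B a * aeval TB P
          - algebraMap A B (p : A) * ((TB - algebraMap A B g₀) * algebraMap A B g₀ * r) := by
      rw [map_sub, ← hTB, hr, map_natCast, map_pow]
      ring
    rw [h1]
    refine Ideal.sub_mem _ (Ideal.sub_mem _ (haB _ h) ?_) ?_
    · exact Ideal.mul_mem_right _ _ (Ideal.mem_span_singleton_self _)
    · exact Ideal.mul_mem_right _ _ (haB _ hpa)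
  obtain ⟨T', hT'⟩ := Ideal.mem_span_singleton'.mp hmem
  have hu : IsUnit (1 + a ^ j * g₀) := by
    apply hlift
    rw [← isUnit_pow_iff hN, ← map_pow]
    have h1 := hP A g₀
    simp only [Algebra.algebraMap_self_apply] at h1
    have h2 : Ideal.Quotient.mk (Ideal.span {a}) ((1 + a ^ j * g₀) ^ (p ^ n)) =
        Ideal.Quotient.mk (Ideal.span {a}) ((f : A) * (g : A) ^ (p ^ n)) := by
      rw [Ideal.Quotient.eq, h1, hfg]
      have h3 : 1 + a ^ (j * p ^ n) * (g₀ ^ p ^ n + a * aeval g₀ P) -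
          (1 + a ^ (j * p ^ n) * f₀) =
          - (a ^ (j * p ^ n) * (f₀ - g₀ ^ p ^ n)) + a * (a ^ (j * p ^ n) * aeval g₀ P) := by ring
      rw [h3]
      refine Ideal.add_mem _ (Ideal.neg_mem_iff _ |>.mpr (Ideal.mul_mem_left _ _ h)) ?_
      exact Ideal.mul_mem_right _ _ (Ideal.mem_span_singleton_self _)
    rw [h2]
    exact ((f * g ^ (p ^ n)).isUnit).map _
  obtain ⟨u, hu⟩ := hu
  let T2 : B := algebraMap A B (u⁻¹ : Aˣ) * T'
  refine ⟨g * u⁻¹, ((T2 ^ (p ^ n) + aeval T2 P2 : B) : L), (T2 ^ (p ^ n) + aeval T2 P2 : B).2, ?_⟩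
  have h1 : ((aeval T2 P2 : B) : L) = aeval (T2 : L) P2 := (aeval_algHom_apply B.val T2 P2).symm
  have h2 := hP2 L (T2 : L)
  have h3 : ((T2 ^ (p ^ n) + aeval T2 P2 : B) : L) = (T2 : L) ^ (p ^ n) + aeval (T2 : L) P2 := by
    rw [← h1]
    rfl
  rw [h3, ← h2, map_mul, ← hZ, map_pow, ← mul_pow]
  congr 1
  have h4 : T = algebraMap A L g₀ + (T' : L) * algebraMap A L a := by
    have h5 := congrArg (fun x : B => (x : L)) hT'
    have h6 : (T' : L) * algebraMap A L a = T - algebraMap A L g₀ := h5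
    rw [h6]
    ring
  have h7 : (T2 : L) = algebraMap A L (u⁻¹ : Aˣ) * (T' : L) := rfl
  have h8 : algebraMap A L (u⁻¹ : Aˣ) * algebraMap A L (u : A) = 1 := by
    rw [← map_mul, Units.inv_mul, map_one]
  calc Z * algebraMap A L ((g * u⁻¹ : Aˣ) : A)
      = algebraMap A L (u⁻¹ : Aˣ) * (algebraMap A L g * Z) := by
        rw [Units.val_mul, map_mul]
        ring
    _ = algebraMap A L (u⁻¹ : Aˣ) * (1 + algebraMap A L a ^ j *
          (algebraMap A L g₀ + (T' : L) * algebraMap A L a)) := by rw [← hT, h4]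
    _ = algebraMap A L (u⁻¹ : Aˣ) * (algebraMap A L (u : A) +
          algebraMap A L a ^ (j + 1) * (T' : L)) := by
        rw [hu, map_add, map_mul, map_one, map_pow]
        ring
    _ = 1 + algebraMap A L a ^ (j + 1) * (T2 : L) := by
        rw [mul_add, h8, h7]
        ring

end K86.Kummer
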