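import Mathlib.Algebra.Module.LocalizedModule.Basic
import Mathlib.Algebra.Module.LocalizedModule.Exact
import Mathlib.Algebra.Module.Projective
import Mathlib.RingTheory.Localization.AtPrime.Basic
import Mathlib.RingTheory.LocalRing.Basic
import Mathlib.RingTheory.Nakayama
import Mathlib.LinearAlgebra.FreeModule.Basic

/-!
# Quotients of free modules by one element, locally free

If `F` is a free module over a domain `A`, `w ∈ F` and `Q` a prime with `w ∈ Q F`, and `(F / A w)_Q`
is projective, then `w = 0`.
-/

set_option autoImplicit false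

namespace K86.LocFreeQuot

theorem mk_eq_zero_iff {A M : Type*} [CommRing A] [AddCommGroup M] [Module A M]
    {S : Submonoid A} {x : M} {s : S} :
    LocalizedModule.mk x s = 0 ↔ ∃ c ∈ S, c • x = 0 := by
  rw [← LocalizedModule.zero_mk 1, LocalizedModule.mk_eq]
  constructor
  · rintro ⟨u, hu⟩
    exact ⟨u, u.2, by simpa [Submonoid.smul_def] using hu⟩
  · rintro ⟨c, hc, h⟩
    exact ⟨⟨c, hc⟩, by simpa [Submonoid.smul_def] using h⟩

/-- The local statement. -/
theorem eq_zero_of_projective {A F M : Type*} [CommRing A] [IsLocalRing A] [AddCommGroup F]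
    [Module A F] [AddCommGroup M] [Module A M] [Module.Projective A M] (f : F →ₗ[A] M)
    (hf : Function.Surjective f) (w : F) (hw : LinearMap.ker f = Submodule.span A {w})
    (hm : w ∈ IsLocalRing.maximalIdeal A • (⊤ : Submodule A F)) : w = 0 := by
  obtain ⟨s, hs⟩ := Module.projective_lifting_property f LinearMap.id hf
  have hs' : ∀ x, f (s x) = x := fun x => LinearMap.congr_fun hs x
  let ρ : F →ₗ[A] F := LinearMap.id - s ∘ₗ f
  have hfw : f w = 0 := by
    have : w ∈ LinearMap.ker f := by rw [hw]; exact Submodule.mem_span_singleton_self w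
    exact this
  have hρw : ρ w = w := by
    show w - s (f w) = w
    rw [hfw, map_zero, sub_zero]
  have hρ : ∀ x, ρ x ∈ Submodule.span A {w} := by
    intro x
    rw [← hw, LinearMap.mem_ker]
    show f (x - s (f x)) = 0
    rw [map_sub, hs', sub_self]
  have h1 : ρ w ∈ IsLocalRing.maximalIdeal A • Submodule.span A {w} := by
    have h2 := Submodule.mem_map_of_mem (f := ρ) hm
    rw [Submodule.map_smul''] at h2
    refine Submodule.smul_mono le_rfl ?_ h2
    rintro _ ⟨x, _, rfl⟩
    exact hρ x
  rw [hρw, Submodule.mem_smul_span_singleton] at h1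
  obtain ⟨q, hq, hqw⟩ := h1
  have h3 : (1 - q) • w = 0 := by rw [sub_smul, one_smul, hqw, sub_self]
  have h4 : IsUnit (1 - q) := by
    by_contra hcon
    have h5 : (1 - q) + q ∈ IsLocalRing.maximalIdeal A :=
      Ideal.add_mem _ hcon hq
    rw [sub_add_cancel] at h5
    exact (Ideal.ne_top_iff_one _).mp (IsLocalRing.maximalIdeal.isMaximal A).ne_top h5
  exact (h4.smul_eq_zero).mp h3

/-- The global statement. -/
theorem eq_zero_of_localized_projective {A F M : Type*} [CommRing A] [IsDomain A] [AddCommGroup F]
    [Module A F] [Module.IsTorsionFree A F] [AddCommGroup M] [Module A M] (f : F →ₗ[A] M)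
    (hf : Function.Surjective f) (w : F) (hw : LinearMap.ker f = Submodule.span A {w})
    (Q : Ideal A) [Q.IsPrime] (hm : w ∈ Q • (⊤ : Submodule A F))
    [Module.Projective (Localization.AtPrime Q) (LocalizedModule Q.primeCompl M)] : w = 0 := by
  let f' : LocalizedModule Q.primeCompl F →ₗ[Localization Q.primeCompl]
    LocalizedModule Q.primeCompl M := LocalizedModule.map Q.primeCompl f
  have hmk : ∀ x s, f' (LocalizedModule.mk x s) = LocalizedModule.mk (f x) s :=
    fun x s => by exact LocalizedModule.map_mk Q.primeCompl f x s
  have hf' : Function.Surjective f' := by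
    intro y
    induction y using LocalizedModule.induction_on with
    | _ y s =>
      obtain ⟨x, rfl⟩ := hf y
      exact ⟨LocalizedModule.mk x s, hmk x s⟩
  have hker : LinearMap.ker f' =
      Submodule.span (Localization Q.primeCompl) {LocalizedModule.mk w 1} := by
    apply le_antisymm
    · intro y hy
      induction y using LocalizedModule.induction_on with
      | _ x s =>
        rw [LinearMap.mem_ker, hmk, mk_eq_zero_iff] at hy
        obtain ⟨c, hc, hcx⟩ := hy
        have h1 : c • x ∈ LinearMap.ker f := by
          rw [LinearMap.mem_ker, map_smul]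
          exact hcx
        rw [hw, Submodule.mem_span_singleton] at h1
        obtain ⟨a, ha⟩ := h1
        rw [Submodule.mem_span_singleton]
        refine ⟨Localization.mk a (⟨c, hc⟩ * s), ?_⟩
        rw [LocalizedModule.mk_smul_mk, ha, mul_one, LocalizedModule.mk_eq]
        refine ⟨1, ?_⟩
        simp only [one_smul, Submonoid.smul_def, Submonoid.coe_mul, smul_smul, mul_comm]
    · rw [Submodule.span_singleton_le_iff_mem, LinearMap.mem_ker, hmk]
      have : f w = 0 := by
        have : w ∈ LinearMap.ker f := by rw [hw]; exact Submodule.mem_span_singleton_self w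
        exact this
      rw [this, LocalizedModule.zero_mk]
  have hm' : (LocalizedModule.mk w 1 : LocalizedModule Q.primeCompl F) ∈
      IsLocalRing.maximalIdeal (Localization.AtPrime Q) •
        (⊤ : Submodule (Localization.AtPrime Q) (LocalizedModule Q.primeCompl F)) := by
    refine Submodule.smul_induction_on hm ?_ ?_
    · intro r hr x _
      have h1 : (LocalizedModule.mk (r • x) 1 : LocalizedModule Q.primeCompl F) =
          (algebraMap A (Localization.AtPrime Q) r) • LocalizedModule.mk x 1 := by
        rw [← Localization.mk_one_eq_algebraMap, LocalizedModule.mk_smul_mk, one_mul]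
      rw [h1]
      refine Submodule.smul_mem_smul ?_ Submodule.mem_top
      rw [IsLocalization.AtPrime.to_map_mem_maximal_iff _ Q]
      exact hr
    · intro x y hx hy
      have h1 : (LocalizedModule.mk (x + y) 1 : LocalizedModule Q.primeCompl F) =
          LocalizedModule.mk x 1 + LocalizedModule.mk y 1 := by
        rw [LocalizedModule.mk_add_mk, one_smul, one_smul, one_mul]
      rw [h1]
      exact Submodule.add_mem _ hx hy
  have h0 := eq_zero_of_projective (A := Localization.AtPrime Q) f' hf' _ hker hm'
  rw [mk_eq_zero_iff] at h0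
  obtain ⟨c, hc, hcw⟩ := h0
  have hc0 : c ≠ 0 := by
    rintro rfl
    exact hc Q.zero_mem
  exact (smul_eq_zero_iff_right hc0).mp hcw

end K86.LocFreeQuot
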