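import Mathlib.Algebra.Module.FinitePresentation
import Mathlib.LinearAlgebra.TensorProduct.Basic
import Mathlib.LinearAlgebra.TensorProduct.Tower
import Mathlib.RingTheory.Spectrum.Prime.FreeLocus
import Mathlib.RingTheory.Localization.AtPrime.Basic
import Mathlib.Algebra.Polynomial.Identities

/-!
# Matrix factorizations and nilpotence in `K₀`
-/

set_option autoImplicit false

open TensorProduct

namespace K86.MatFac

section

variable {R : Type*} [CommRing R]

/-- A pair of linear maps whose composites are multiplication by `s`. -/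
def MF (s : R) (A B : Type*) [AddCommGroup A] [Module R A] [AddCommGroup B] [Module R B] : Prop :=
  ∃ (α : A →ₗ[R] B) (β : B →ₗ[R] A), β ∘ₗ α = s • LinearMap.id ∧ α ∘ₗ β = s • LinearMap.id

variable {A B A' B' : Type*} [AddCommGroup A] [Module R A] [AddCommGroup B] [Module R B]
  [AddCommGroup A'] [Module R A'] [AddCommGroup B'] [Module R B']

theorem MF.smul {s : R} (h : MF s A B) (t : R) : MF (t * s) A B := by
  obtain ⟨α, β, h1, h2⟩ := h
  refine ⟨α, t • β, ?_, ?_⟩
  · rw [LinearMap.smul_comp, h1, smul_smul]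
  · rw [LinearMap.comp_smul, h2, smul_smul]

theorem MF.equiv (h : MF (1 : R) A B) : Nonempty (A ≃ₗ[R] B) := by
  obtain ⟨α, β, h1, h2⟩ := h
  rw [one_smul] at h1 h2
  exact ⟨LinearEquiv.ofLinearMap α β h2 h1⟩

theorem MF.zero : MF (0 : R) A B := ⟨0, 0, by simp, by simp⟩

theorem MF.tensor {s s' : R} (h : MF s A B) (h' : MF s' A' B') :
    MF (s + s') ((A ⊗[R] A') × (B ⊗[R] B')) ((B ⊗[R] A') × (A ⊗[R] B')) := by
  obtain ⟨α, β, h1, h2⟩ := h
  obtain ⟨α', β', h1', h2'⟩ := h'
  have e1 : ∀ x, β (α x) = s • x := LinearMap.congr_fun h1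
  have e2 : ∀ x, α (β x) = s • x := LinearMap.congr_fun h2
  have e3 : ∀ x, β' (α' x) = s' • x := LinearMap.congr_fun h1'
  have e4 : ∀ x, α' (β' x) = s' • x := LinearMap.congr_fun h2'
  refine ⟨LinearMap.prod
      (LinearMap.coprod (LinearMap.rTensor A' α) (-LinearMap.lTensor B β'))
      (LinearMap.coprod (LinearMap.lTensor A α') (LinearMap.rTensor B' β)),
    LinearMap.prod
      (LinearMap.coprod (LinearMap.rTensor A' β) (LinearMap.lTensor A β'))
      (LinearMap.coprod (-LinearMap.lTensor B α') (LinearMap.rTensor B' α)),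
    ?_, ?_⟩
  · ext x y <;> simp [e1, e2, e3, e4, TensorProduct.smul_tmul, TensorProduct.tmul_smul, add_smul,
      add_comm]
  · ext x y <;> simp [e1, e2, e3, e4, TensorProduct.smul_tmul, TensorProduct.tmul_smul, add_smul,
      add_comm]

/-- local triviality -/
theorem exists_mf [Module.FinitePresentation R A] [Module.FinitePresentation R B]
    (S : Submonoid R) {As Bs : Type*} [AddCommGroup As] [Module R As] [AddCommGroup Bs]
    [Module R Bs] (f : A →ₗ[R] As) [IsLocalizedModule S f] (g : B →ₗ[R] Bs)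
    [IsLocalizedModule S g] (e : As ≃ₗ[R] Bs) : ∃ s ∈ S, MF s A B := by
  obtain ⟨α, s₁, h1⟩ := Module.FinitePresentation.exists_lift_of_isLocalizedModule S g
    (e.toLinearMap ∘ₗ f)
  obtain ⟨β, s₂, h2⟩ := Module.FinitePresentation.exists_lift_of_isLocalizedModule S f
    (e.symm.toLinearMap ∘ₗ g)
  have h1' : ∀ x, g (α x) = s₁ • e (f x) := LinearMap.congr_fun h1
  have h2' : ∀ x, f (β x) = s₂ • e.symm (g x) := LinearMap.congr_fun h2
  have h3 : f ∘ₗ (β ∘ₗ α) = f ∘ₗ (((s₁ : R) * (s₂ : R)) • LinearMap.id) := by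
    ext x
    simp only [LinearMap.comp_apply, LinearMap.smul_apply, LinearMap.id_apply, h2', h1',
      Submonoid.smul_def, map_smul, LinearEquiv.symm_apply_apply, smul_smul, mul_comm]
  have h4 : g ∘ₗ (α ∘ₗ β) = g ∘ₗ (((s₁ : R) * (s₂ : R)) • LinearMap.id) := by
    ext x
    simp only [LinearMap.comp_apply, LinearMap.smul_apply, LinearMap.id_apply, h2', h1',
      Submonoid.smul_def, map_smul, LinearEquiv.apply_symm_apply, smul_smul]
  obtain ⟨s₃, h5⟩ := Module.Finite.exists_smul_of_comp_eq_of_isLocalizedModule S f _ _ h3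
  obtain ⟨s₄, h6⟩ := Module.Finite.exists_smul_of_comp_eq_of_isLocalizedModule S g _ _ h4
  rw [Submonoid.smul_def, Submonoid.smul_def] at h5 h6
  refine ⟨(s₃ : R) * s₄ * (s₁ * s₂), S.mul_mem (S.mul_mem s₃.2 s₄.2) (S.mul_mem s₁.2 s₂.2), α,
    ((s₃ : R) * s₄) • β, ?_, ?_⟩
  · rw [LinearMap.smul_comp, mul_comm (s₃ : R), mul_smul, h5, smul_smul, smul_smul, mul_assoc]
  · rw [LinearMap.comp_smul, mul_smul, h6, smul_smul, smul_smul, mul_assoc]

theorem exists_mf_of_rank (P : Type*) [AddCommGroup P] [Module R P] [Module.Finite R P]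
    [Module.Projective R P] {r : ℕ} (p : PrimeSpectrum R) (hr : Module.rankAtStalk P p = r) :
    ∃ s ∉ p.asIdeal, MF s P (Fin r → R) := by
  have : Module.FinitePresentation R P := Module.finitePresentation_of_projective R P
  have : Module.FinitePresentation R (Fin r → R) := Module.finitePresentation_of_projective R _
  let Rp := Localization.AtPrime p.asIdeal
  let Pp := LocalizedModule p.asIdeal.primeCompl P
  have hfin : Module.Finite Rp Pp := inferInstance
  have hfree : Module.Free Rp Pp := Module.free_of_flat_of_isLocalRing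
  let b := Module.finBasisOfFinrankEq Rp Pp hr
  let e : Pp ≃ₗ[R] (Fin r → Rp) := b.equivFun.restrictScalars R
  let g : (Fin r → R) →ₗ[R] (Fin r → Rp) :=
    .pi fun i ↦ Algebra.linearMap R Rp ∘ₗ .proj i
  obtain ⟨s, hs, h⟩ := exists_mf p.asIdeal.primeCompl
    (LocalizedModule.mkLinearMap p.asIdeal.primeCompl P) g e
  exact ⟨s, hs, h⟩

end

/-- an ideal-theoretic computation -/
theorem exists_mul_mem {A : Type*} [CommRing A] (J : Ideal A) (D : A) (r n k : ℕ) (hr : r ≠ 0)
    (hn : n ≠ 0) (hk : D ^ k ∈ J) (h : (r + D) ^ n - (r : A) ^ n ∈ J) :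
    ∃ M : ℕ, M ≠ 0 ∧ (M : A) * D ∈ J := by
  obtain ⟨y, hy⟩ := Polynomial.powAddExpansion (r : A) D n
  rw [hy] at h
  set c : ℕ := n * r ^ (n - 1) with hc
  have hc0 : c ≠ 0 := Nat.mul_ne_zero hn (pow_ne_zero _ hr)
  have h1 : (c : A) * D + y * D ^ 2 ∈ J := by
    have : (c : A) * D + y * D ^ 2 =
        (r : A) ^ n + n * (r : A) ^ (n - 1) * D + y * D ^ 2 - (r : A) ^ n := by
      rw [hc]
      push_cast
      ring
    rw [this]
    exact h
  have key : ∀ i j : ℕ, (c : A) ^ i * D ^ (j + 1) ∈ J → ∃ M : ℕ, M ≠ 0 ∧ (M : A) * D ∈ J := by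
    intro i j
    induction j generalizing i with
    | zero =>
      intro h
      exact ⟨c ^ i, pow_ne_zero _ hc0, by simpa using h⟩
    | succ j ih =>
      intro h
      apply ih (i + 1)
      have h2 : (c : A) ^ (i + 1) * D ^ (j + 1) =
          ((c : A) ^ i * D ^ j) * (c * D + y * D ^ 2) - y * (c ^ i * D ^ (j + 1 + 1)) := by ring
      rw [h2]
      exact J.sub_mem (J.mul_mem_left _ h1) (J.mul_mem_left _ h)
  refine key 0 k ?_
  rw [pow_zero, one_mul, pow_succ]
  exact J.mul_mem_right _ hk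

end K86.MatFac
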