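import Mathlib.RingTheory.Ideal.Height
import Mathlib.RingTheory.Ideal.MinimalPrime.Noetherian
import Mathlib.RingTheory.KrullDimension.Basic
import Mathlib.LinearAlgebra.Pi
import Mathlib.LinearAlgebra.StdBasis

/-!
# Bass's stable range theorem and cancellation of free summands
-/

set_option autoImplicit false

namespace K86.StableRange

variable {R : Type*} [CommRing R]

theorem exists_add_mul_notMem {c a : R} (S : Finset (Ideal R)) :
    (∀ q ∈ S, q.IsPrime) → (∀ q ∈ S, ∀ q' ∈ S, q ≤ q' → q = q') → (∀ q ∈ S, c ∉ q) →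
    ∃ b : R, ∀ q ∈ S, a + b * c ∉ q := by
  classical
  induction S using Finset.induction_on with
  | empty => exact fun _ _ _ => ⟨0, by simp⟩
  | insert q₀ S hq₀ ih =>
    intro hp hinc hc
    obtain ⟨b, hb⟩ := ih (fun q hq => hp q (Finset.mem_insert_of_mem hq))
      (fun q hq q' hq' => hinc q (Finset.mem_insert_of_mem hq) q' (Finset.mem_insert_of_mem hq'))
      (fun q hq => hc q (Finset.mem_insert_of_mem hq))
    by_cases h : a + b * c ∈ q₀
    · have hq₀p := hp q₀ (Finset.mem_insert_self _ _)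
      have h1 : ¬ (∏ q ∈ S, q) ≤ q₀ := by
        rw [hq₀p.prod_le]
        rintro ⟨q, hq, hle⟩
        have := hinc q (Finset.mem_insert_of_mem hq) q₀ (Finset.mem_insert_self _ _) hle
        exact hq₀ (this ▸ hq)
      obtain ⟨e, he, heq₀⟩ := SetLike.not_le_iff_exists.mp h1
      refine ⟨b + e, fun q hq => ?_⟩
      rcases Finset.mem_insert.mp hq with rfl | hq
      · intro hcon
        have h2 : e * c ∈ q := by
          have h3 : e * c = (a + (b + e) * c) - (a + b * c) := by ring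
          rw [h3]
          exact q.sub_mem hcon h
        rcases hq₀p.mem_or_mem h2 with h3 | h3
        · exact heq₀ h3
        · exact hc q hq h3
      · intro hcon
        have h2 : e ∈ q := Ideal.prod_le_inf.trans (Finset.inf_le hq) he
        apply hb q hq
        have h3 : a + b * c = (a + (b + e) * c) - e * c := by ring
        rw [h3]
        exact q.sub_mem hcon (Ideal.mul_mem_right _ _ h2)
    · refine ⟨b, fun q hq => ?_⟩
      rcases Finset.mem_insert.mp hq with rfl | hq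
      · exact h
      · exact hb q hq

theorem exists_le_height [IsNoetherianRing R] (c : R) : ∀ (m : ℕ) (a : Fin m → R),
    ∃ b : Fin m → R, ∀ q : Ideal R, q.IsPrime → (∀ i, a i + b i * c ∈ q) → c ∉ q →
      (m : ℕ∞) ≤ q.height
  | 0, _ => ⟨fun _ => 0, fun _ _ _ _ => by simp⟩
  | m + 1, a => by
    classical
    obtain ⟨b', hb'⟩ := exists_le_height c m (fun i => a i.succ)
    let I : Ideal R := Ideal.span (Set.range fun i => a i.succ + b' i * c)
    have hfin := I.finite_minimalPrimes_of_isNoetherianRing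
    let S : Finset (Ideal R) := hfin.toFinset.filter (fun q => c ∉ q)
    have hS : ∀ q, q ∈ S ↔ q ∈ I.minimalPrimes ∧ c ∉ q := fun q => by
      rw [Finset.mem_filter, Set.Finite.mem_toFinset]
    obtain ⟨b₀, hb₀⟩ := exists_add_mul_notMem (a := a 0) (c := c) S
      (fun q hq => ((hS q).mp hq).1.1.1)
      (fun q hq q' hq' hle => le_antisymm hle
        (((hS q').mp hq').1.2 ⟨((hS q).mp hq).1.1.1, ((hS q).mp hq).1.1.2⟩ hle))
      (fun q hq => ((hS q).mp hq).2)
    refine ⟨Fin.cons b₀ b', fun q hq hmem hcq => ?_⟩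
    have hIq : I ≤ q := by
      rw [Ideal.span_le]
      rintro _ ⟨i, rfl⟩
      have := hmem i.succ
      rwa [Fin.cons_succ] at this
    obtain ⟨q', hq', hle⟩ := Ideal.exists_minimalPrimes_le hIq
    have hq'p : q'.IsPrime := hq'.1.1
    have hcq' : c ∉ q' := fun h => hcq (hle h)
    have h1 : (m : ℕ∞) ≤ q'.height := hb' q' hq'p
      (fun i => hq'.1.2 (Ideal.subset_span ⟨i, rfl⟩)) hcq'
    have h2 : a 0 + b₀ * c ∉ q' := hb₀ q' ((hS q').mpr ⟨hq', hcq'⟩)
    have h3 : a 0 + b₀ * c ∈ q := by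
      have := hmem 0
      rwa [Fin.cons_zero] at this
    have h4 : q' < q := lt_of_le_of_ne hle (fun h => h2 (h ▸ h3))
    calc ((m + 1 : ℕ) : ℕ∞) = (m : ℕ∞) + 1 := by push_cast; rfl
      _ ≤ q'.height + 1 := by gcongr
      _ ≤ q.height := Ideal.height_add_one_le_of_lt_of_isPrime h4

/-- Bass's stable range theorem. -/
theorem exists_unimodular [IsNoetherianRing R] {d : ℕ} (hd : ringKrullDim R ≤ d) {m : ℕ}
    (hm : d < m) (a : Fin m → R) (c : R) (h : Ideal.span (insert c (Set.range a)) = ⊤) :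
    ∃ b : Fin m → R, Ideal.span (Set.range fun i => a i + b i * c) = ⊤ := by
  obtain ⟨b, hb⟩ := exists_le_height c m a
  refine ⟨b, ?_⟩
  by_contra hne
  obtain ⟨q, hq, hle⟩ := Ideal.exists_le_maximal _ hne
  have hmem : ∀ i, a i + b i * c ∈ q := fun i => hle (Ideal.subset_span ⟨i, rfl⟩)
  by_cases hc : c ∈ q
  · apply hq.ne_top
    rw [eq_top_iff, ← h, Ideal.span_le]
    rintro x (rfl | ⟨i, rfl⟩)
    · exact hc
    · have h1 : a i = (a i + b i * c) - b i * c := by ring
      rw [h1]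
      exact q.sub_mem (hmem i) (Ideal.mul_mem_left _ _ hc)
  · haveI := hq.isPrime
    have h1 := hb q hq.isPrime hmem hc
    have h2 : (q.height : WithBot ℕ∞) ≤ d := Ideal.height_le_ringKrullDim_of_isPrime.trans hd
    have h3 : q.height ≤ (d : ℕ∞) := by exact_mod_cast h2
    have h4 : (m : ℕ∞) ≤ (d : ℕ∞) := h1.trans h3
    exact absurd (by exact_mod_cast h4 : m ≤ d) (by omega)

/-- If an isomorphism `Q × R ≃ F × R` sends `(0,1)` to `(0,1)` then `Q ≃ F`. -/
noncomputable def equivOfFix {Q F : Type*} [AddCommGroup Q] [Module R Q] [AddCommGroup F]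
    [Module R F] (Ψ : (Q × R) ≃ₗ[R] (F × R)) (h : Ψ (0, 1) = (0, 1)) : Q ≃ₗ[R] F :=
  have h' : Ψ.symm (0, 1) = (0, 1) := by rw [← h, Ψ.symm_apply_apply]
  have key : ∀ y : R, Ψ (0, y) = (0, y) := fun y => by
    have : ((0, y) : Q × R) = y • (0, 1) := by simp
    rw [this, map_smul, h]
    simp
  have key' : ∀ y : R, Ψ.symm (0, y) = (0, y) := fun y => by
    have : ((0, y) : F × R) = y • (0, 1) := by simp
    rw [this, map_smul, h']
    simp
  LinearEquiv.ofLinearMap
    (LinearMap.fst R F R ∘ₗ Ψ.toLinearMap ∘ₗ LinearMap.inl R Q R)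
    (LinearMap.fst R Q R ∘ₗ Ψ.symm.toLinearMap ∘ₗ LinearMap.inl R F R)
    (by
      ext x
      show (Ψ ((Ψ.symm (x, 0)).1, 0)).1 = x
      have h1 : (((Ψ.symm (x, 0)).1, 0) : Q × R) = Ψ.symm (x, 0) - (0, (Ψ.symm (x, 0)).2) := by
        ext <;> simp
      rw [h1, map_sub, Ψ.apply_symm_apply, key]
      simp)
    (by
      ext x
      show (Ψ.symm ((Ψ (x, 0)).1, 0)).1 = x
      have h1 : (((Ψ (x, 0)).1, 0) : F × R) = Ψ (x, 0) - (0, (Ψ (x, 0)).2) := by
        ext <;> simp
      rw [h1, map_sub, Ψ.symm_apply_apply, key']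
      simp)

/-- the shear `(x, y) ↦ (x, y + θ x)` -/
def shearR {F G : Type*} [AddCommGroup F] [Module R F] [AddCommGroup G] [Module R G]
    (θ : F →ₗ[R] G) : (F × G) ≃ₗ[R] (F × G) where
  toFun z := (z.1, z.2 + θ z.1)
  invFun z := (z.1, z.2 - θ z.1)
  map_add' x y := by ext <;> simp <;> abel
  map_smul' r x := by ext <;> simp
  left_inv x := by ext <;> simp
  right_inv x := by ext <;> simp

/-- the shear `(x, y) ↦ (x + θ y, y)` -/
def shearL {F G : Type*} [AddCommGroup F] [Module R F] [AddCommGroup G] [Module R G]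
    (θ : G →ₗ[R] F) : (F × G) ≃ₗ[R] (F × G) where
  toFun z := (z.1 + θ z.2, z.2)
  invFun z := (z.1 - θ z.2, z.2)
  map_add' x y := by ext <;> simp <;> abel
  map_smul' r x := by ext <;> simp
  left_inv x := by ext <;> simp
  right_inv x := by ext <;> simp

/-- Cancellation of one free summand. -/
theorem cancel_one [IsNoetherianRing R] {d : ℕ} (hd : ringKrullDim R ≤ d) {m : ℕ} (hm : d < m)
    {Q : Type*} [AddCommGroup Q] [Module R Q] (e : (Q × R) ≃ₗ[R] ((Fin m → R) × R)) :
    Nonempty (Q ≃ₗ[R] (Fin m → R)) := by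
  classical
  set v := e (0, 1) with hv
  obtain ⟨a, c⟩ := v
  let π : ((Fin m → R) × R) →ₗ[R] R := LinearMap.snd R Q R ∘ₗ e.symm.toLinearMap
  have hπ : π (a, c) = 1 := by
    show (e.symm (a, c)).2 = 1
    rw [hv, e.symm_apply_apply]
  have hspan : Ideal.span (insert c (Set.range a)) = ⊤ := by
    rw [Ideal.eq_top_iff_one, ← hπ]
    have h1 : ((a, c) : (Fin m → R) × R) = (a, 0) + c • (0, 1) := by ext <;> simp
    have h2 : a = ∑ i, a i • (Pi.single i 1 : Fin m → R) := by
      ext j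
      simp [Finset.sum_apply, Pi.single_apply]
    have h3 : π (a, 0) = ∑ i, a i * π (Pi.single i 1, 0) := by
      have h4 : ((a, 0) : (Fin m → R) × R) = LinearMap.inl R (Fin m → R) R a := rfl
      rw [h4]
      conv_lhs => rw [h2]
      rw [map_sum, map_sum]
      refine Finset.sum_congr rfl fun i _ => ?_
      rw [map_smul, map_smul, smul_eq_mul]
      rfl
    rw [h1, map_add, map_smul, h3]
    refine Ideal.add_mem _ (Submodule.sum_mem _ fun i _ => ?_) ?_
    · exact Ideal.mul_mem_right _ _ (Ideal.subset_span (Or.inr ⟨i, rfl⟩))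
    · exact Ideal.mul_mem_right _ _ (Ideal.subset_span (Or.inl rfl))
  obtain ⟨b, hb⟩ := exists_unimodular hd hm a c hspan
  set a' : Fin m → R := fun i => a i + b i * c with ha'
  obtain ⟨θ, hθ⟩ : ∃ θ : (Fin m → R) →ₗ[R] R, θ a' = 1 := by
    have h1 : (1 : R) ∈ Ideal.span (Set.range a') := by rw [hb]; trivial
    rw [Ideal.span, Submodule.mem_span_range_iff_exists_fun] at h1
    obtain ⟨t, ht⟩ := h1
    refine ⟨∑ i, t i • LinearMap.proj i, ?_⟩
    simp only [LinearMap.sum_apply, LinearMap.smul_apply, LinearMap.proj_apply]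
    exact ht
  let τ1 : ((Fin m → R) × R) ≃ₗ[R] ((Fin m → R) × R) := shearL (LinearMap.toSpanSingleton R _ b)
  let τ2 : ((Fin m → R) × R) ≃ₗ[R] ((Fin m → R) × R) := shearR ((1 - c) • θ)
  let τ3 : ((Fin m → R) × R) ≃ₗ[R] ((Fin m → R) × R) :=
    shearL (LinearMap.toSpanSingleton R _ (-a'))
  have hfix : (e.trans (τ1.trans (τ2.trans τ3))) (0, 1) = (0, 1) := by
    simp only [LinearEquiv.trans_apply]
    rw [← hv]
    have e1 : τ1 (a, c) = (a', c) := by
      show (a + c • b, c) = (a', c)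
      ext i
      · simp [ha', mul_comm]
      · rfl
    have e2 : τ2 (a', c) = (a', 1) := by
      show (a', c + (1 - c) * θ a') = (a', 1)
      rw [hθ]
      simp
    have e3 : τ3 (a', 1) = (0, 1) := by
      show (a' + (1 : R) • (-a'), (1 : R)) = (0, 1)
      simp
    rw [e1, e2, e3]
  exact ⟨equivOfFix _ hfix⟩

/-- Cancellation of a free module of finite rank. -/
theorem cancel [IsNoetherianRing R] {d : ℕ} (hd : ringKrullDim R ≤ d) {m : ℕ} (hm : d < m) :
    ∀ (q : ℕ) {Q : Type*} [AddCommGroup Q] [Module R Q]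
    (_ : (Q × (Fin q → R)) ≃ₗ[R] (Fin (m + q) → R)), Nonempty (Q ≃ₗ[R] (Fin m → R))
  | 0, Q, _, _, e => ⟨(LinearEquiv.prodUnique (R := R) (M := Q) (M₂ := Fin 0 → R)).symm.trans e⟩
  | q + 1, Q, _, _, e => by
    let e1 : ((Q × (Fin q → R)) × R) ≃ₗ[R] (Q × (Fin (q + 1) → R)) :=
      (LinearEquiv.prodAssoc R Q (Fin q → R) R).trans
        ((LinearEquiv.refl R Q).prodCongr
          ((LinearEquiv.prodComm R _ _).trans (Fin.consLinearEquiv R (fun _ => R))))
    let e2 : (Fin (m + (q + 1)) → R) ≃ₗ[R] ((Fin (m + q) → R) × R) :=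
      (Fin.consLinearEquiv R (fun _ : Fin (m + q + 1) => R)).symm.trans (LinearEquiv.prodComm R _ _)
    obtain ⟨e3⟩ := cancel_one hd (m := m + q) (by omega) ((e1.trans e).trans e2)
    exact cancel hd hm q e3

end K86.StableRange
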