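import Groth.Agent.CAlg.K86.Abhyankar
import Mathlib.Algebra.Field.Subfield.Basic
import Mathlib.RingTheory.KrullDimension.Basic
import Mathlib.LinearAlgebra.Dimension.RankNullity
import Mathlib.LinearAlgebra.Dimension.Localization
import Mathlib.RingTheory.LocalRing.ResidueField.Basic
import Mathlib.Algebra.CharP.Lemmas
import Mathlib.Algebra.CharP.LocalRing
import Mathlib.RingTheory.Multiplicity

/-!
# The dimension of a valuation ring

* `exists_linearIndependent_of_chain`: a chain of `n + 1` primes of a valuation subring `A` of `K`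
  gives `n` elements of `K^×` with `ℤ`-linearly independent classes in the value group;
* `rank_valueGroup_le`: the rational rank is at most `1 + tr.deg(K / prime field)`;
* `ringKrullDim_le`: the dimension is at most `1 + tr.deg(K / prime field)`.
-/

set_option autoImplicit false

namespace K86.ValDim

open IsLocalRing

universe u

variable {K : Type u} [Field K] (A : ValuationSubring K)

/-- The value group, written additively. -/
abbrev VG : Type u := Additive Kˣ ⧸ Subgroup.toAddSubgroup (A.valuation.valuationSubring.unitGroup)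

theorem mk_eq_zero_iff (x : Kˣ) :
    (QuotientAddGroup.mk (Additive.ofMul x) : VG A) = 0 ↔ A.valuation x = 1 := by
  rw [QuotientAddGroup.eq_zero_iff]
  exact Valuation.mem_unitGroup_iff _ A.valuation x

theorem sum_zsmul_mk {ι : Type*} (s : Finset ι) (x : ι → Kˣ) (c : ι → ℤ) :
    ∑ i ∈ s, c i • (QuotientAddGroup.mk (Additive.ofMul (x i)) : VG A) =
      QuotientAddGroup.mk (Additive.ofMul (∏ i ∈ s, x i ^ c i)) := by
  simp only [ofMul_prod, ofMul_zpow]
  rw [← QuotientAddGroup.mk'_apply, map_sum]
  rfl

/-- A chain of primes gives linearly independent elements of the value group. -/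
theorem exists_linearIndependent_of_chain (l : LTSeries (PrimeSpectrum A)) :
    ∃ x : Fin l.length → Kˣ,
      LinearIndependent ℤ (fun i => (QuotientAddGroup.mk (Additive.ofMul (x i)) : VG A)) := by
  classical
  have hlt : ∀ i : Fin l.length, (l.toFun i.castSucc).asIdeal < (l.toFun i.succ).asIdeal :=
    fun i => l.step i
  choose z hz1 hz2 using fun i => Set.exists_of_ssubset (hlt i)
  have hz0 : ∀ i, (z i : K) ≠ 0 := by
    intro i h
    apply hz2 i
    have : z i = 0 := Subtype.ext h
    rw [this]
    exact Ideal.zero_mem _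
  refine ⟨fun i => Units.mk0 (z i : K) (hz0 i), ?_⟩
  rw [Fintype.linearIndependent_iff]
  -- it is enough to exclude a relation whose first nonzero coefficient is positive
  have key : ∀ c : Fin l.length → ℤ, ∑ i, c i • (QuotientAddGroup.mk (Additive.ofMul
      (Units.mk0 (z i : K) (hz0 i))) : VG A) = 0 →
      ∀ i₀, (∀ i < i₀, c i = 0) → ¬ 0 < c i₀ := by
    intro c hc i₀ hi₀ hpos
    rw [sum_zsmul_mk, mk_eq_zero_iff] at hc
    let X : A := ∏ i, z i ^ (c i).toNat
    let Y : A := ∏ i, z i ^ (-c i).toNat
    have hXY : A.valuation (X : K) = A.valuation (Y : K) := by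
      have h1 : (X : K) = (∏ i, Units.mk0 (z i : K) (hz0 i) ^ c i : Kˣ) * (Y : K) := by
        simp only [X, Y, Units.coe_prod, Units.val_zpow_eq_zpow_val, Units.val_mk0,
          SubmonoidClass.coe_finsetProd, SubmonoidClass.coe_pow]
        rw [← Finset.prod_mul_distrib]
        refine Finset.prod_congr rfl fun i _ => ?_
        rw [← zpow_natCast, ← zpow_natCast, ← zpow_add₀ (hz0 i)]
        congr 1
        omega
      rw [h1, map_mul, hc, one_mul]
    have hX : X ∈ (l.toFun i₀.succ).asIdeal := by
      refine Ideal.mem_of_dvd _ (Finset.dvd_prod_of_mem _ (Finset.mem_univ i₀)) ?_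
      exact Ideal.pow_mem_of_mem _ (hz1 i₀) _ (by omega)
    have hX0 : (X : K) ≠ 0 := by
      simp only [X, SubmonoidClass.coe_finsetProd, SubmonoidClass.coe_pow]
      exact Finset.prod_ne_zero_iff.mpr fun i _ => pow_ne_zero _ (hz0 i)
    have hdvd : X ∣ Y := by
      have h2 : (Y : K) / X ∈ A := by
        rw [← A.valuation_le_one_iff, map_div₀, hXY, div_self]
        rw [← hXY]
        exact (Valuation.ne_zero_iff _).mpr hX0
      refine ⟨⟨_, h2⟩, Subtype.ext ?_⟩
      show (Y : K) = X * ((Y : K) / X)
      rw [mul_div_cancel₀ _ hX0]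
    have hY := Ideal.mem_of_dvd _ hdvd hX
    obtain ⟨i, _, hi⟩ := (Ideal.IsPrime.prod_mem_iff (hp := (l.toFun i₀.succ).isPrime)).mp hY
    by_cases h0 : (-c i).toNat = 0
    · rw [h0, pow_zero] at hi
      exact (Ideal.ne_top_iff_one _).mp (l.toFun i₀.succ).isPrime.ne_top hi
    · have hci : c i < 0 := by omega
      have hi' := (l.toFun i₀.succ).isPrime.mem_of_pow_mem _ hi
      have hii₀ : i₀ < i := by
        rcases lt_trichotomy i i₀ with h | h | h
        · have := hi₀ i h; omega
        · subst h; omega
        · exact h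
      apply hz2 i
      have hmono : (l.toFun i₀.succ) ≤ (l.toFun i.castSucc) := by
        apply l.strictMono.monotone
        rw [Fin.le_iff_val_le_val]
        simp only [Fin.val_succ, Fin.val_castSucc]
        exact hii₀
      exact hmono hi'
  intro c hc
  by_contra hcon
  push Not at hcon
  obtain ⟨i₁, hi₁⟩ := hcon
  obtain ⟨i₀, hi₀, hmin⟩ := (Finset.univ.filter fun i => c i ≠ 0).exists_min_image id
    ⟨i₁, Finset.mem_filter.mpr ⟨Finset.mem_univ _, hi₁⟩⟩
  rw [Finset.mem_filter] at hi₀
  have hlt' : ∀ i < i₀, c i = 0 := by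
    intro i hi
    by_contra h
    exact absurd (hmin i (Finset.mem_filter.mpr ⟨Finset.mem_univ _, h⟩)) (not_le.mpr hi)
  rcases lt_or_gt_of_ne hi₀.2 with h | h
  · refine key (fun i => -c i) ?_ i₀ (fun i hi => by rw [hlt' i hi, neg_zero]) (by simpa using h)
    rw [sum_zsmul_mk, mk_eq_zero_iff] at hc ⊢
    simp only [zpow_neg, Finset.prod_inv_distrib]
    rw [Units.val_inv_eq_inv_val, map_inv₀, hc, inv_one]
  · exact key c hc i₀ hlt' h

theorem length_le_rank (l : LTSeries (PrimeSpectrum A)) :
    (l.length : Cardinal) ≤ Module.rank ℤ (VG A) := by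
  obtain ⟨x, hx⟩ := exists_linearIndependent_of_chain A l
  have := hx.cardinal_lift_le_rank
  simpa using this

/-- The image in the value group of the prime field is contained in a cyclic group. -/
theorem exists_generator : ∃ g : VG A, ∀ x : Kˣ, (x : K) ∈ (⊥ : Subfield K) →
    (QuotientAddGroup.mk (Additive.ofMul x) : VG A) ∈ Submodule.span ℤ {g} := by
  classical
  -- the residue characteristic
  obtain ⟨p, hp⟩ := CharP.exists (ResidueField A)
  -- values of integers
  have hint : ∃ g : VG A, ∀ (n : ℤ) (hn : (n : K) ≠ 0),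
      (QuotientAddGroup.mk (Additive.ofMul (Units.mk0 (n : K) hn)) : VG A) ∈
        Submodule.span ℤ {g} := by
    -- an integer with nonzero residue is a unit
    have hunit : ∀ (n : ℤ) (hn : (n : K) ≠ 0), ¬ ((p : ℤ) ∣ n) →
        (QuotientAddGroup.mk (Additive.ofMul (Units.mk0 (n : K) hn)) : VG A) = 0 := by
      intro n hn hpn
      rw [mk_eq_zero_iff]
      have h1 : IsUnit ((n : ℤ) : A) := by
        by_contra hcon
        have h2 : residue A (n : A) = 0 := (residue_eq_zero_iff _).mpr hcon
        rw [map_intCast] at h2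
        exact hpn ((CharP.intCast_eq_zero_iff (ResidueField A) p n).mp h2)
      obtain ⟨w, hw⟩ := h1
      have := A.valuation_unit w
      rw [hw] at this
      exact this
    by_cases hpK : ((p : ℕ) : K) = 0
    · refine ⟨0, fun n hn => ?_⟩
      have h1 : ¬ ((p : ℤ) ∣ n) := by
        rintro ⟨m, rfl⟩
        apply hn
        push_cast
        rw [hpK, zero_mul]
      rw [hunit n hn h1]
      exact Submodule.zero_mem _
    · refine ⟨QuotientAddGroup.mk (Additive.ofMul (Units.mk0 ((p : ℕ) : K) hpK)), fun n hn => ?_⟩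
      have hn0 : n ≠ 0 := by
        rintro rfl
        exact hn (by simp)
      have hp0 : p ≠ 0 := by
        rintro rfl
        exact hpK (by simp)
      have hp1 : Nat.Prime p := (CharP.char_is_prime_or_zero (ResidueField A) p).resolve_right hp0
      have hfin : FiniteMultiplicity (p : ℤ) n :=
        Int.finiteMultiplicity_iff.mpr ⟨by simpa using hp1.one_lt.ne', hn0⟩
      obtain ⟨m, hm, hpm⟩ := hfin.exists_eq_pow_mul_and_not_dvd
      have hmK : (m : K) ≠ 0 := by
        intro h
        apply hn
        rw [hm]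
        push_cast
        rw [h, mul_zero]
      have h2 : Units.mk0 (n : K) hn =
          Units.mk0 ((p : ℕ) : K) hpK ^ (multiplicity (p : ℤ) n) * Units.mk0 (m : K) hmK := by
        ext
        simp only [Units.val_mk0, Units.val_mul, Units.val_pow_eq_pow_val]
        conv_lhs => rw [hm]
        push_cast
        rfl
      rw [h2, ofMul_mul, ofMul_pow, QuotientAddGroup.mk_add]
      refine add_mem ?_ ?_
      · rw [QuotientAddGroup.mk_nsmul]
        exact (Submodule.span ℤ _).toAddSubgroup.nsmul_mem (Submodule.mem_span_singleton_self _) _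
      · rw [hunit m hmK hpm]
        exact zero_mem _
  obtain ⟨g, hg⟩ := hint
  refine ⟨g, fun x hx => ?_⟩
  rw [← Subfield.closure_empty, Subfield.mem_closure_iff] at hx
  obtain ⟨y, hy, z, hz, hyz⟩ := hx
  rw [Subring.closure_empty, Subring.mem_bot] at hy hz
  obtain ⟨a, rfl⟩ := hy
  obtain ⟨b, rfl⟩ := hz
  have hb : (b : K) ≠ 0 := by
    intro h
    rw [h, div_zero] at hyz
    exact x.ne_zero hyz.symm
  have ha : (a : K) ≠ 0 := by
    intro h
    rw [h, zero_div] at hyz
    exact x.ne_zero hyz.symm
  have h3 : x = Units.mk0 (a : K) ha * (Units.mk0 (b : K) hb)⁻¹ := by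
    ext
    simp only [Units.val_mul, Units.val_mk0, Units.val_inv_eq_inv_val]
    rw [← hyz, div_eq_mul_inv]
  rw [h3, ofMul_mul, ofMul_inv, QuotientAddGroup.mk_add, QuotientAddGroup.mk_neg]
  exact add_mem (hg a ha) (neg_mem (hg b hb))

instance hasExtension_bot :
    (A.valuation.comap (algebraMap (⊥ : Subfield K) K)).HasExtension A.valuation :=
  ⟨Valuation.IsEquiv.refl⟩

/-- The rational rank of the value group is at most one more than the transcendence degree over the
prime field. -/
theorem rank_valueGroup_le :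
    Module.rank ℤ (VG A) ≤ Algebra.trdeg (⊥ : Subfield K) K + 1 := by
  have habh := K86.Abhyankar.rank_add_trdeg_le
    (A.valuation.comap (algebraMap (⊥ : Subfield K) K)) A.valuation
  let φ : VG A →ₗ[ℤ] (Additive Kˣ ⧸ Subgroup.toAddSubgroup
      (K86.Abhyankar.unitSub (⊥ : Subfield K) A.valuation)) :=
    (QuotientAddGroup.map _ _ (AddMonoidHom.id _) (by
      intro x hx
      have h : Additive.toMul x ∈ K86.Abhyankar.unitSub (⊥ : Subfield K) A.valuation :=
        Subgroup.mem_sup_left hx
      exact h)).toIntLinearMap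
  obtain ⟨g, hg⟩ := exists_generator A
  have hker : LinearMap.ker φ ≤ Submodule.span ℤ {g} := by
    intro x hx
    obtain ⟨y, rfl⟩ := QuotientAddGroup.mk_surjective x
    have h1 : (QuotientAddGroup.mk y : Additive Kˣ ⧸ Subgroup.toAddSubgroup
      (K86.Abhyankar.unitSub (⊥ : Subfield K) A.valuation)) = 0 := hx
    rw [QuotientAddGroup.eq_zero_iff] at h1
    have h2 : Additive.toMul y ∈ K86.Abhyankar.unitSub (⊥ : Subfield K) A.valuation := h1
    obtain ⟨a, ha, b, ⟨c, rfl⟩, hab⟩ := Subgroup.mem_sup.mp h2
    have h3 : y = Additive.ofMul a + Additive.ofMul (Units.map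
        (algebraMap (⊥ : Subfield K) K).toMonoidHom c) := by
      rw [← ofMul_mul, hab]
      rfl
    rw [h3, QuotientAddGroup.mk_add]
    have h4 : (QuotientAddGroup.mk (Additive.ofMul a) : VG A) = 0 :=
      (QuotientAddGroup.eq_zero_iff _).mpr ha
    refine add_mem ?_ (hg _ (c : (⊥ : Subfield K)).2)
    rw [h4]
    exact zero_mem _
  have h5 : Module.rank ℤ (LinearMap.ker φ) ≤ 1 := by
    refine (Submodule.rank_mono hker).trans ((rank_span_le _).trans ?_)
    simp
  have h6 : Module.rank ℤ (LinearMap.range φ) ≤ Algebra.trdeg (⊥ : Subfield K) K :=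
    (Submodule.rank_le _).trans ((self_le_add_right _ _).trans habh)
  rw [← LinearMap.rank_range_add_rank_ker φ]
  exact add_le_add h6 h5

/-- The dimension of a valuation ring is at most one more than the transcendence degree over the
prime field. -/
theorem ringKrullDim_le (d : ℕ) (hd : Algebra.trdeg (⊥ : Subfield K) K = d) :
    ringKrullDim A ≤ ((d + 1 : ℕ) : WithBot ℕ∞) := by
  refine iSup_le fun l => ?_
  have h1 := (length_le_rank A l).trans (rank_valueGroup_le A)
  rw [hd] at h1
  have h2 : l.length ≤ d + 1 := by exact_mod_cast h1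
  exact_mod_cast h2

end K86.ValDim
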