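import Groth.Agent.CAlg.K86.ValDim
import Mathlib.RingTheory.Valuation.ValuationRing
import Mathlib.Data.Finset.Sort

/-!
# Valuation rings of finitely generated fields have finite spectrum

* `finite_primeSpectrum_of_ringKrullDim_le`: a valuation ring of finite dimension has finitely many
  primes;
* `exists_trdeg_eq`: a finitely generated field has finite transcendence degree over its prime
  field;
* `finite_primeSpectrum_valuationSubring`.
-/

set_option autoImplicit false

namespace K86.ValUnion

universe u

theorem finite_primeSpectrum_of_ringKrullDim_le {A : Type*} [CommRing A] [IsDomain A]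
    [ValuationRing A] (n : ℕ) (h : ringKrullDim A ≤ n) : Finite (PrimeSpectrum A) := by
  classical
  let inst : LinearOrder (PrimeSpectrum A) :=
    { (inferInstance : PartialOrder (PrimeSpectrum A)) with
      le_total := fun p q => (ValuationRing.le_total_ideal (A := A)).total p.asIdeal q.asIdeal
      toDecidableLE := Classical.decRel _ }
  by_contra hinf
  rw [not_finite_iff_infinite] at hinf
  obtain ⟨s, hs⟩ := Infinite.exists_subset_card_eq (PrimeSpectrum A) (n + 2)
  let l : LTSeries (PrimeSpectrum A) :=
    { length := n + 1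
      toFun := s.orderEmbOfFin hs
      step := fun i => (s.orderEmbOfFin hs).strictMono (Fin.castSucc_lt_succ (i := i)) }
  have h0 : ((l.length : ℕ) : WithBot ℕ∞) ≤ ringKrullDim A :=
    le_iSup (fun l : LTSeries (PrimeSpectrum A) => ((l.length : ℕ) : WithBot ℕ∞)) l
  have h1 := h0.trans h
  have h2 : ((n + 1 : ℕ) : WithBot ℕ∞) ≤ ((n : ℕ) : WithBot ℕ∞) := h1
  have h3 : n + 1 ≤ n := by exact_mod_cast h2
  omega

/-- A finitely generated field has finite transcendence degree over its prime field. -/
theorem exists_trdeg_eq (K : Type u) [Field K] (S : Set K) (hS : S.Finite)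
    (h : Subfield.closure S = ⊤) : ∃ d : ℕ, Algebra.trdeg (⊥ : Subfield K) K = d := by
  have halg : Algebra.IsAlgebraic (Algebra.adjoin (⊥ : Subfield K) S) K := by
    constructor
    intro x
    have hx : x ∈ Subfield.closure S := by rw [h]; trivial
    rw [Subfield.mem_closure_iff] at hx
    obtain ⟨y, hy, z, hz, rfl⟩ := hx
    have hle : ∀ w ∈ Subring.closure S, w ∈ Algebra.adjoin (⊥ : Subfield K) S := by
      intro w hw
      have : Subring.closure S ≤ (Algebra.adjoin (⊥ : Subfield K) S).toSubring :=
        Subring.closure_le.mpr Algebra.subset_adjoin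
      exact this hw
    have h1 : IsAlgebraic (Algebra.adjoin (⊥ : Subfield K) S) y :=
      isAlgebraic_algebraMap (⟨y, hle y hy⟩ : Algebra.adjoin (⊥ : Subfield K) S)
    have h2 : IsAlgebraic (Algebra.adjoin (⊥ : Subfield K) S) z :=
      isAlgebraic_algebraMap (⟨z, hle z hz⟩ : Algebra.adjoin (⊥ : Subfield K) S)
    rw [div_eq_mul_inv]
    exact h1.mul h2.inv
  obtain ⟨t, hts, ht⟩ := exists_isTranscendenceBasis_subset (R := (⊥ : Subfield K)) S
  have hfin : t.Finite := hS.subset hts
  have h1 := ht.cardinalMk_eq_trdeg
  have h2 : Cardinal.mk t < Cardinal.aleph0 := hfin.lt_aleph0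
  rw [h1] at h2
  exact Cardinal.lt_aleph0.mp h2

/-- A valuation subring of a finitely generated field has finite spectrum. -/
theorem finite_primeSpectrum_valuationSubring {K : Type u} [Field K] (A : ValuationSubring K)
    (S : Set K) (hS : S.Finite) (h : Subfield.closure S = ⊤) : Finite (PrimeSpectrum A) := by
  obtain ⟨d, hd⟩ := exists_trdeg_eq K S hS h
  exact finite_primeSpectrum_of_ringKrullDim_le (d + 1) (K86.ValDim.ringKrullDim_le A d hd)

end K86.ValUnion
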