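import Mathlib.RingTheory.WittVector.Truncated
import Mathlib.RingTheory.WittVector.Identities
import Mathlib.RingTheory.WittVector.Domain
import Mathlib.NumberTheory.Basic
import Mathlib.Tactic.LinearCombination

/-!
# Witt vectors of a general ring: filtrations

`W = W(R)` for an arbitrary commutative ring `R`, `I = ker (W → R)`, `I_n = ker (W → W_n(R))`.

* `verschiebung_mul_verschiebung`: `V x * V y = p * V (x * y)`;
* `ker_constantCoeff_pow_succ`: `I ^ (n + 1) = p ^ n * I`;
* `mem_ker_truncate_iff`: `I_n` is the image of the `n`-th iterate of `V`;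
* `mul_mem_ker_truncate`: `p ^ k = 0` in `R` implies `p ^ (k * n) ∈ I_n`;
* `ghostComponent_eq_sum`: the ghost components as explicit sums;
* `eq_of_ghost`: without `p`-torsion the first `m` ghost components determine the first `m` components;
* `pow_dvd_coeff_iff`: divisibility of components and of ghost components;
* `exists_ghost_eq`: Dwork's lemma.
-/

set_option autoImplicit false

namespace K86.WittBasic

open WittVector

variable {p : ℕ} [hp : Fact p.Prime] {R : Type*} [CommRing R]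

local notation "𝕎" => WittVector p

theorem mem_ker_constantCoeff {x : 𝕎 R} :
    x ∈ RingHom.ker (constantCoeff : 𝕎 R →+* R) ↔ x.coeff 0 = 0 := Iff.rfl

theorem mem_ker_constantCoeff_iff {x : 𝕎 R} :
    x ∈ RingHom.ker (constantCoeff : 𝕎 R →+* R) ↔ ∃ y : 𝕎 R, x = verschiebung y := by
  rw [mem_ker_constantCoeff]
  constructor
  · intro h
    refine ⟨x.shift 1, ?_⟩
    have := eq_iterate_verschiebung (x := x) (n := 1) (by
      intro i hi
      obtain rfl : i = 0 := by omega
      exact h)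
    simpa using this
  · rintro ⟨y, rfl⟩
    exact verschiebung_coeff_zero y

theorem verschiebung_mul_natCast (x : 𝕎 R) (n : ℕ) :
    verschiebung (x * (n : 𝕎 R)) = verschiebung x * (n : 𝕎 R) := by
  rw [← nsmul_eq_mul', ← nsmul_eq_mul', map_nsmul]

theorem verschiebung_natCast_mul (x : 𝕎 R) (n : ℕ) :
    verschiebung ((n : 𝕎 R) * x) = (n : 𝕎 R) * verschiebung x := by
  rw [mul_comm, verschiebung_mul_natCast, mul_comm]

theorem verschiebung_p_pow_mul (x : 𝕎 R) (n : ℕ) :
    verschiebung ((p : 𝕎 R) ^ n * x) = (p : 𝕎 R) ^ n * verschiebung x := by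
  have := verschiebung_natCast_mul x (p ^ n)
  simpa using this

theorem iterate_verschiebung_p_pow_mul (x : 𝕎 R) (n m : ℕ) :
    verschiebung^[m] ((p : 𝕎 R) ^ n * x) = (p : 𝕎 R) ^ n * verschiebung^[m] x := by
  induction m generalizing x with
  | zero => rfl
  | succ m ih =>
    rw [Function.iterate_succ_apply, Function.iterate_succ_apply, verschiebung_p_pow_mul, ih]

/-- `V x * V y = p * V (x * y)`. -/
theorem verschiebung_mul_verschiebung (x y : 𝕎 R) :
    verschiebung x * verschiebung y = (p : 𝕎 R) * verschiebung (x * y) := by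
  rw [← verschiebung_mul_frobenius, frobenius_verschiebung, ← mul_assoc, verschiebung_mul_natCast,
    mul_comm]

theorem mul_mem_of_ker {x y : 𝕎 R} (hx : x ∈ RingHom.ker (constantCoeff : 𝕎 R →+* R))
    (hy : y ∈ RingHom.ker (constantCoeff : 𝕎 R →+* R)) :
    ∃ z ∈ RingHom.ker (constantCoeff : 𝕎 R →+* R), x * y = (p : 𝕎 R) * z := by
  obtain ⟨a, rfl⟩ := mem_ker_constantCoeff_iff.mp hx
  obtain ⟨b, rfl⟩ := mem_ker_constantCoeff_iff.mp hy
  exact ⟨verschiebung (a * b), mem_ker_constantCoeff_iff.mpr ⟨_, rfl⟩,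
    verschiebung_mul_verschiebung a b⟩

/-- Every element of `p * I` is in `I * I`: `p * V x = V 1 * V x`. -/
theorem p_mul_verschiebung (x : 𝕎 R) :
    (p : 𝕎 R) * verschiebung x = verschiebung 1 * verschiebung x := by
  rw [verschiebung_mul_verschiebung, one_mul]

/-- `I ^ (n + 1) = p ^ n * I` for the ideal `I` of Witt vectors with vanishing zeroth component. -/
theorem ker_constantCoeff_pow_succ (n : ℕ) :
    (RingHom.ker (constantCoeff : 𝕎 R →+* R)) ^ (n + 1) =
      Ideal.span {(p : 𝕎 R) ^ n} * RingHom.ker (constantCoeff : 𝕎 R →+* R) := by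
  induction n with
  | zero => simp
  | succ n ih =>
    have h2 : RingHom.ker (constantCoeff : 𝕎 R →+* R) * RingHom.ker (constantCoeff : 𝕎 R →+* R) =
        Ideal.span {(p : 𝕎 R)} * RingHom.ker (constantCoeff : 𝕎 R →+* R) := by
      apply le_antisymm
      · rw [Ideal.mul_le]
        intro x hx y hy
        obtain ⟨z, hz, hxy⟩ := mul_mem_of_ker hx hy
        rw [hxy]
        exact Ideal.mul_mem_mul (Ideal.mem_span_singleton_self _) hz
      · rw [Ideal.span_singleton_mul_le_iff]
        intro x hx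
        obtain ⟨a, rfl⟩ := mem_ker_constantCoeff_iff.mp hx
        rw [p_mul_verschiebung]
        exact Ideal.mul_mem_mul (mem_ker_constantCoeff_iff.mpr ⟨1, rfl⟩) hx
    rw [pow_succ, ih, mul_assoc, h2, ← mul_assoc, Ideal.span_singleton_mul_span_singleton,
      ← pow_succ]

theorem mem_ker_constantCoeff_pow_succ_iff {n : ℕ} {x : 𝕎 R} :
    x ∈ (RingHom.ker (constantCoeff : 𝕎 R →+* R)) ^ (n + 1) ↔
      ∃ y : 𝕎 R, x = verschiebung ((p : 𝕎 R) ^ n * y) := by
  rw [ker_constantCoeff_pow_succ, Ideal.mem_span_singleton_mul]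
  constructor
  · rintro ⟨z, hz, rfl⟩
    obtain ⟨a, rfl⟩ := mem_ker_constantCoeff_iff.mp hz
    exact ⟨a, (verschiebung_p_pow_mul a n).symm⟩
  · rintro ⟨y, rfl⟩
    exact ⟨verschiebung y, mem_ker_constantCoeff_iff.mpr ⟨_, rfl⟩, (verschiebung_p_pow_mul y n).symm⟩

/-- The kernel of the truncation `W → W_n` is the image of the `n`-th iterate of `V`. -/
theorem mem_ker_truncate_iff {n : ℕ} {x : 𝕎 R} :
    x ∈ RingHom.ker (truncate (p := p) (R := R) n) ↔ ∃ y : 𝕎 R, x = verschiebung^[n] y := by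
  rw [mem_ker_truncate]
  constructor
  · intro h
    exact ⟨_, eq_iterate_verschiebung h⟩
  · rintro ⟨y, rfl⟩ i hi
    exact iterate_verschiebung_coeff_eq_zero y hi

theorem ker_truncate_anti {m n : ℕ} (h : m ≤ n) :
    RingHom.ker (truncate (p := p) (R := R) n) ≤ RingHom.ker (truncate (p := p) (R := R) m) := by
  intro x hx
  rw [mem_ker_truncate] at hx ⊢
  exact fun i hi => hx i (hi.trans_le h)

theorem ker_truncate_zero : RingHom.ker (truncate (p := p) (R := R) 0) = ⊤ := by
  rw [eq_top_iff]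
  intro x _
  rw [mem_ker_truncate]
  intro i hi
  omega

theorem ker_truncate_one :
    RingHom.ker (truncate (p := p) (R := R) 1) = RingHom.ker (constantCoeff : 𝕎 R →+* R) := by
  ext x
  rw [mem_ker_truncate, mem_ker_constantCoeff]
  constructor
  · intro h; exact h 0 (by omega)
  · intro h i hi
    obtain rfl : i = 0 := by omega
    exact h

/-- If `p ^ k = 0` in `R` then `p ^ k * I_n ⊆ I_{n+1}`. -/
theorem p_pow_mul_mem_ker_truncate_succ {k : ℕ} (hk : (p : R) ^ k = 0) {n : ℕ} {x : 𝕎 R}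
    (hx : x ∈ RingHom.ker (truncate (p := p) (R := R) n)) :
    (p : 𝕎 R) ^ k * x ∈ RingHom.ker (truncate (p := p) (R := R) (n + 1)) := by
  obtain ⟨y, rfl⟩ := mem_ker_truncate_iff.mp hx
  rw [← iterate_verschiebung_p_pow_mul]
  have h1 : (p : 𝕎 R) ^ k * y ∈ RingHom.ker (constantCoeff : 𝕎 R →+* R) := by
    rw [RingHom.mem_ker, map_mul, map_pow, map_natCast, hk, zero_mul]
  obtain ⟨z, hz⟩ := mem_ker_constantCoeff_iff.mp h1
  rw [hz, ← Function.iterate_succ_apply]
  exact mem_ker_truncate_iff.mpr ⟨z, rfl⟩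

/-- If `p ^ k = 0` in `R` then `p ^ (k * n) ∈ I_n`. -/
theorem p_pow_mem_ker_truncate {k : ℕ} (hk : (p : R) ^ k = 0) (n : ℕ) :
    (p : 𝕎 R) ^ (k * n) ∈ RingHom.ker (truncate (p := p) (R := R) n) := by
  induction n with
  | zero => rw [ker_truncate_zero]; trivial
  | succ n ih =>
    rw [Nat.mul_succ, pow_add, mul_comm]
    exact p_pow_mul_mem_ker_truncate_succ hk ih

/-- If `p ^ k = 0` in `R`, then `I ^ (k * n + 1) ⊆ I_n`. -/
theorem ker_constantCoeff_pow_le_ker_truncate {k : ℕ} (hk : (p : R) ^ k = 0) (n : ℕ) :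
    (RingHom.ker (constantCoeff : 𝕎 R →+* R)) ^ (k * n + 1) ≤
      RingHom.ker (truncate (p := p) (R := R) n) := by
  rw [ker_constantCoeff_pow_succ]
  refine Ideal.mul_le_left.trans ?_
  rw [Ideal.span_singleton_le_iff_mem]
  exact p_pow_mem_ker_truncate hk n

theorem ker_constantCoeff_pow_succ_le (n : ℕ) :
    (RingHom.ker (constantCoeff : 𝕎 R →+* R)) ^ (n + 1) ≤ Ideal.span {(p : 𝕎 R)} ^ n := by
  rw [ker_constantCoeff_pow_succ, Ideal.span_singleton_pow]
  exact Ideal.mul_le_left

theorem span_p_pow_le_ker_pow {k : ℕ} (hk : (p : R) ^ k = 0) (n : ℕ) :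
    Ideal.span {(p : 𝕎 R)} ^ (k * n) ≤ (RingHom.ker (constantCoeff : 𝕎 R →+* R)) ^ n := by
  rw [pow_mul]
  refine Ideal.pow_right_mono ?_ n
  rw [Ideal.span_singleton_pow, Ideal.span_singleton_le_iff_mem, RingHom.mem_ker, map_pow,
    map_natCast, hk]

/-! ### Ghost components -/

theorem ghostComponent_eq_sum (n : ℕ) (x : 𝕎 R) :
    ghostComponent n x = ∑ i ∈ Finset.range (n + 1), (p : R) ^ i * x.coeff i ^ p ^ (n - i) := by
  rw [ghostComponent_apply, aeval_wittPolynomial]

theorem ghostComponent_eq_sum_add (n : ℕ) (x : 𝕎 R) :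
    ghostComponent n x =
      (∑ i ∈ Finset.range n, (p : R) ^ i * x.coeff i ^ p ^ (n - i)) + (p : R) ^ n * x.coeff n := by
  rw [ghostComponent_eq_sum, Finset.sum_range_succ, Nat.sub_self, pow_zero, pow_one]

omit hp in
theorem p_pow_mul_cancel (hR : ∀ y : R, (p : R) * y = 0 → y = 0) (n : ℕ) {a b : R}
    (h : (p : R) ^ n * a = (p : R) ^ n * b) : a = b := by
  induction n with
  | zero => simpa using h
  | succ n ih =>
    apply ih
    rw [← sub_eq_zero]
    apply hR
    rw [mul_sub, ← mul_assoc, ← mul_assoc, ← pow_succ', h, sub_self]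

/-- Without `p`-torsion, the first `m` ghost components determine the first `m` components. -/
theorem coeff_eq_of_ghost (hR : ∀ y : R, (p : R) * y = 0 → y = 0) {x y : 𝕎 R} (m : ℕ)
    (h : ∀ n < m, ghostComponent n x = ghostComponent n y) : ∀ n < m, x.coeff n = y.coeff n := by
  intro n
  induction n using Nat.strong_induction_on with
  | _ n ih =>
    intro hn
    have h1 := h n hn
    rw [ghostComponent_eq_sum_add, ghostComponent_eq_sum_add] at h1
    have h2 : ∑ i ∈ Finset.range n, (p : R) ^ i * x.coeff i ^ p ^ (n - i) =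
        ∑ i ∈ Finset.range n, (p : R) ^ i * y.coeff i ^ p ^ (n - i) := by
      refine Finset.sum_congr rfl fun i hi => ?_
      rw [Finset.mem_range] at hi
      rw [ih i hi (hi.trans hn)]
    rw [h2, add_right_inj] at h1
    exact p_pow_mul_cancel hR n h1

theorem eq_of_ghost (hR : ∀ y : R, (p : R) * y = 0 → y = 0) {x y : 𝕎 R}
    (h : ∀ n, ghostComponent n x = ghostComponent n y) : x = y := by
  ext n
  exact coeff_eq_of_ghost hR (n + 1) (fun i _ => h i) n (Nat.lt_succ_self n)

theorem ghostComponent_eq_of_coeff {x y : 𝕎 R} (m : ℕ)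
    (h : ∀ n < m, x.coeff n = y.coeff n) : ∀ n < m, ghostComponent n x = ghostComponent n y := by
  intro n hn
  rw [ghostComponent_eq_sum, ghostComponent_eq_sum]
  refine Finset.sum_congr rfl fun i hi => ?_
  rw [Finset.mem_range] at hi
  rw [h i (by omega)]

theorem add_le_mul_pow (k s : ℕ) (hs : 1 ≤ s) : s + k ≤ s * p ^ k := by
  have h2 : k + 1 ≤ p ^ k := Nat.lt_pow_self hp.out.one_lt
  calc s + k ≤ s + s * k := by nlinarith
    _ = s * (k + 1) := by ring
    _ ≤ s * p ^ k := Nat.mul_le_mul_left s h2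

/-- Divisibility of the Witt components and of the ghost components. -/
theorem pow_dvd_ghostComponent {x : 𝕎 R} {s : ℕ} (hs : 1 ≤ s) {n : ℕ}
    (h : ∀ i ≤ n, (p : R) ^ s ∣ x.coeff i) : (p : R) ^ (n + s) ∣ ghostComponent n x := by
  rw [ghostComponent_eq_sum]
  refine Finset.dvd_sum fun i hi => ?_
  rw [Finset.mem_range] at hi
  have h1 : (p : R) ^ (s * p ^ (n - i)) ∣ x.coeff i ^ p ^ (n - i) := by
    rw [pow_mul]
    exact pow_dvd_pow_of_dvd (h i (by omega)) _
  have h2 : n + s = i + (s + (n - i)) := by omega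
  rw [h2, pow_add]
  exact mul_dvd_mul_left _ ((pow_dvd_pow _ (add_le_mul_pow (n - i) s hs)).trans h1)

theorem pow_dvd_coeff (hR : ∀ y : R, (p : R) * y = 0 → y = 0) {x : 𝕎 R} {s : ℕ} (hs : 1 ≤ s)
    {m : ℕ} (h : ∀ n ≤ m, (p : R) ^ (n + s) ∣ ghostComponent n x) :
    ∀ n ≤ m, (p : R) ^ s ∣ x.coeff n := by
  intro n
  induction n using Nat.strong_induction_on with
  | _ n ih =>
    intro hn
    obtain ⟨c, hc⟩ := h n hn
    have h1 : (p : R) ^ (n + s) ∣ ∑ i ∈ Finset.range n, (p : R) ^ i * x.coeff i ^ p ^ (n - i) := by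
      refine Finset.dvd_sum fun i hi => ?_
      rw [Finset.mem_range] at hi
      have h1 : (p : R) ^ (s * p ^ (n - i)) ∣ x.coeff i ^ p ^ (n - i) := by
        rw [pow_mul]
        exact pow_dvd_pow_of_dvd (ih i hi (by omega)) _
      have h2 : n + s = i + (s + (n - i)) := by omega
      rw [h2, pow_add]
      exact mul_dvd_mul_left _ ((pow_dvd_pow _ (add_le_mul_pow (n - i) s hs)).trans h1)
    obtain ⟨d, hd⟩ := h1
    rw [ghostComponent_eq_sum_add, hd] at hc
    refine ⟨c - d, p_pow_mul_cancel hR n ?_⟩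
    rw [← mul_assoc, ← pow_add]
    linear_combination hc

theorem pow_dvd_coeff_iff (hR : ∀ y : R, (p : R) * y = 0 → y = 0) {x : 𝕎 R} {s : ℕ} (hs : 1 ≤ s)
    {m : ℕ} : (∀ i ≤ m, (p : R) ^ s ∣ x.coeff i) ↔
      (∀ n ≤ m, (p : R) ^ (n + s) ∣ ghostComponent n x) :=
  ⟨fun h _ hn => pow_dvd_ghostComponent hs fun i hi => h i (hi.trans hn), pow_dvd_coeff hR hs⟩

/-! ### Dwork's lemma -/

/-- The recursively defined Witt components in Dwork's lemma. -/
noncomputable def dworkSeq (p : ℕ) {R : Type*} [CommRing R] (w : ℕ → R) : ℕ → R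
  | n => Classical.epsilon fun c : R =>
      (∑ i : Fin n, (p : R) ^ (i : ℕ) * dworkSeq p w i ^ p ^ (n - i)) + (p : R) ^ n * c = w n
  decreasing_by exact i.2

/-- Dwork's lemma: if `φ` lifts the `p`-th power map modulo `p` and
`w (n + 1) ≡ φ (w n)` modulo `p ^ (n + 1)` for all `n`, then `w` is the sequence of ghost
components of a Witt vector. -/
theorem exists_ghost_eq (φ : R →+* R) (hφ : ∀ x : R, (p : R) ∣ φ x - x ^ p) (w : ℕ → R)
    (hw : ∀ n, (p : R) ^ (n + 1) ∣ w (n + 1) - φ (w n)) :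
    ∃ x : 𝕎 R, ∀ n, ghostComponent n x = w n := by
  refine ⟨WittVector.mk p (dworkSeq p w), fun n => ?_⟩
  have key : ∀ n, (∑ i : Fin n, (p : R) ^ (i : ℕ) * dworkSeq p w i ^ p ^ (n - i)) +
      (p : R) ^ n * dworkSeq p w n = w n := by
    intro n
    induction n with
    | zero =>
      have h : ∃ c : R, (∑ i : Fin 0, (p : R) ^ (i : ℕ) * dworkSeq p w i ^ p ^ (0 - (i : ℕ))) +
          (p : R) ^ 0 * c = w 0 := ⟨w 0, by simp⟩
      have h' := Classical.epsilon_spec h
      rw [dworkSeq]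
      exact h'
    | succ n ih =>
      have h : ∃ c : R, (∑ i : Fin (n + 1), (p : R) ^ (i : ℕ) *
          dworkSeq p w i ^ p ^ (n + 1 - (i : ℕ))) + (p : R) ^ (n + 1) * c = w (n + 1) := by
        obtain ⟨c, hc⟩ := hw n
        have h1 : (p : R) ^ (n + 1) ∣ φ (w n) -
            ∑ i : Fin (n + 1), (p : R) ^ (i : ℕ) * dworkSeq p w i ^ p ^ (n + 1 - (i : ℕ)) := by
          have h2 : w n = ∑ i : Fin (n + 1), (p : R) ^ (i : ℕ) * dworkSeq p w i ^ p ^ (n - (i : ℕ)) := by
            rw [Fin.sum_univ_castSucc, ← ih]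
            simp
          rw [h2, map_sum, ← Finset.sum_sub_distrib]
          refine Finset.dvd_sum fun i _ => ?_
          have hi : (i : ℕ) ≤ n := Nat.lt_succ_iff.mp i.2
          rw [map_mul, map_pow, map_pow, map_natCast, ← mul_sub]
          have h3 : n + 1 = (i : ℕ) + (n - (i : ℕ) + 1) := by omega
          have h4 : n + 1 - (i : ℕ) = (n - (i : ℕ)) + 1 := by omega
          nth_rewrite 1 [h3]
          rw [pow_add, h4]
          refine mul_dvd_mul_left _ ?_
          rw [pow_succ' p (n - (i : ℕ)), pow_mul]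
          exact dvd_sub_pow_of_dvd_sub (hφ _) _
        obtain ⟨d, hd⟩ := h1
        refine ⟨c + d, ?_⟩
        linear_combination -hc - hd
      have h' := Classical.epsilon_spec h
      rw [dworkSeq]
      exact h'
  rw [ghostComponent_eq_sum_add]
  have h := key n
  rw [Fin.sum_univ_eq_sum_range
    (fun i => (p : R) ^ i * dworkSeq p w i ^ p ^ (n - i)) n] at h
  exact h

end K86.WittBasic
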