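import Groth.Agent.CAlg.K86.WittBasic
import Mathlib.RingTheory.AdicCompletion.Basic
import Mathlib.RingTheory.Ideal.Quotient.Operations

/-!
# Completeness of the ring of Witt vectors of a `p`-adically complete ring

For `R` `p`-adically complete and separated, `W(R)` is the limit of the rings `W_r(R / p ^ s)`.
`Cong p s r x y` says that `x` and `y` agree in `W_r(R / p ^ s)`, i.e. the first `r` components of
`x` and `y` are congruent modulo `p ^ s`; it is a ring congruence.

* `Cong.iff`: `Cong` in terms of components;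
* `eq_of_forall_cong`: `W(R)` is separated for `R` separated;
* `isHausdorff_p`, `isAdicComplete_p`: `W(R)` is `p`-adically complete;
* `isAdicComplete_ker`: `W(R)` is complete for the ideal `ker (W(R) → R)`.
-/

set_option autoImplicit false

namespace K86.WittComplete

open WittVector K86.WittBasic

variable {p : ℕ} [hp : Fact p.Prime] {R : Type*} [CommRing R]

local notation "𝕎" => WittVector p

variable (p R) in
/-- The projection `W(R) → W_r(R / p ^ s)`. -/
noncomputable def proj (s r : ℕ) :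
    𝕎 R →+* TruncatedWittVector p r (R ⧸ Ideal.span {(p : R) ^ s}) :=
  (truncate r).comp (WittVector.map (Ideal.Quotient.mk (Ideal.span {(p : R) ^ s})))

/-- Two Witt vectors agree in `W_r(R / p ^ s)`. -/
def Cong (s r : ℕ) (x y : 𝕎 R) : Prop := proj p R s r x = proj p R s r y

theorem Cong.iff {s r : ℕ} {x y : 𝕎 R} :
    Cong s r x y ↔ ∀ i < r, (p : R) ^ s ∣ x.coeff i - y.coeff i := by
  have h1 : ∀ (z : 𝕎 R) (i : Fin r), (proj p R s r z).coeff i =
      Ideal.Quotient.mk (Ideal.span {(p : R) ^ s}) (z.coeff i) := by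
    intro z i
    rw [proj, RingHom.comp_apply, coeff_truncate, map_coeff]
  constructor
  · intro h i hi
    have h2 := congrArg (fun z => TruncatedWittVector.coeff ⟨i, hi⟩ z) h
    simp only [h1] at h2
    rw [Ideal.Quotient.eq, Ideal.mem_span_singleton] at h2
    exact h2
  · intro h
    show proj p R s r x = proj p R s r y
    ext i
    rw [h1, h1, Ideal.Quotient.eq, Ideal.mem_span_singleton]
    exact h i i.2

theorem Cong.refl (s r : ℕ) (x : 𝕎 R) : Cong s r x x := rfl

theorem Cong.symm {s r : ℕ} {x y : 𝕎 R} (h : Cong s r x y) : Cong s r y x := Eq.symm h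

theorem Cong.trans {s r : ℕ} {x y z : 𝕎 R} (h : Cong s r x y) (h' : Cong s r y z) : Cong s r x z :=
  Eq.trans h h'

theorem Cong.add {s r : ℕ} {x y x' y' : 𝕎 R} (h : Cong s r x y) (h' : Cong s r x' y') :
    Cong s r (x + x') (y + y') := by
  unfold Cong at *
  rw [map_add, map_add, h, h']

theorem Cong.sub {s r : ℕ} {x y x' y' : 𝕎 R} (h : Cong s r x y) (h' : Cong s r x' y') :
    Cong s r (x - x') (y - y') := by
  unfold Cong at *
  rw [map_sub, map_sub, h, h']

theorem Cong.mul {s r : ℕ} {x y x' y' : 𝕎 R} (h : Cong s r x y) (h' : Cong s r x' y') :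
    Cong s r (x * x') (y * y') := by
  unfold Cong at *
  rw [map_mul, map_mul, h, h']

theorem Cong.mono {s s' r r' : ℕ} (hs : s ≤ s') (hr : r ≤ r') {x y : 𝕎 R} (h : Cong s' r' x y) :
    Cong s r x y := by
  rw [Cong.iff] at h ⊢
  exact fun i hi => (pow_dvd_pow _ hs).trans (h i (hi.trans_le hr))

theorem cong_sub_zero {s r : ℕ} {x y : 𝕎 R} : Cong s r (x - y) 0 ↔ Cong s r x y := by
  unfold Cong
  rw [map_sub, map_zero, sub_eq_zero]

theorem cong_zero_iff {s r : ℕ} {x : 𝕎 R} :
    Cong s r x 0 ↔ ∀ i < r, (p : R) ^ s ∣ x.coeff i := by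
  rw [Cong.iff]
  simp

theorem cong_zero_of_mem_ker {s r : ℕ} {x : 𝕎 R}
    (hx : x ∈ RingHom.ker (truncate (p := p) (R := R) r)) : Cong s r x 0 := by
  rw [cong_zero_iff]
  rw [mem_ker_truncate] at hx
  intro i hi
  rw [hx i hi]
  exact dvd_zero _

theorem proj_surjective (s r : ℕ) : Function.Surjective (proj p R s r) := by
  rw [proj, RingHom.coe_comp]
  exact (truncate_surjective p r _).comp (map_surjective _ Ideal.Quotient.mk_surjective)

/-- `p` is nilpotent in `W_r(R / p ^ s)`. -/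
theorem p_pow_cong_zero (s r : ℕ) {n : ℕ} (hn : s * r ≤ n) (x : 𝕎 R) :
    Cong s r ((p : 𝕎 R) ^ n * x) 0 := by
  have hk : (p : R ⧸ Ideal.span {(p : R) ^ s}) ^ s = 0 := by
    rw [← map_natCast (Ideal.Quotient.mk _), ← map_pow, Ideal.Quotient.eq_zero_iff_mem]
    exact Ideal.mem_span_singleton_self _
  have h1 := p_pow_mem_ker_truncate hk r
  have h2 : proj p R s r ((p : 𝕎 R) ^ (s * r)) = 0 := by
    rw [proj, RingHom.comp_apply, map_pow, map_natCast]
    exact h1
  obtain ⟨k, rfl⟩ := Nat.exists_eq_add_of_le hn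
  unfold Cong
  rw [pow_add, map_mul, map_mul, h2, zero_mul, zero_mul, map_zero]

section complete

omit hp in
theorem eq_zero_of_forall_dvd [IsHausdorff (Ideal.span {(p : R)}) R] {y : R}
    (h : ∀ s : ℕ, (p : R) ^ s ∣ y) : y = 0 := by
  refine IsHausdorff.haus (I := Ideal.span {(p : R)}) inferInstance y fun n => ?_
  rw [SModEq.zero, smul_eq_mul, Ideal.mul_top, Ideal.span_singleton_pow, Ideal.mem_span_singleton]
  exact h n

theorem eq_of_forall_cong [IsHausdorff (Ideal.span {(p : R)}) R] {x y : 𝕎 R}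
    (h : ∀ s r : ℕ, Cong s r x y) : x = y := by
  ext n
  rw [← sub_eq_zero]
  refine eq_zero_of_forall_dvd (p := p) fun s => ?_
  exact Cong.iff.mp (h s (n + 1)) n (Nat.lt_succ_self n)

omit hp in
/-- Limits in a `p`-adically complete ring. -/
theorem exists_limit [IsPrecomplete (Ideal.span {(p : R)}) R] (a : ℕ → R)
    (ha : ∀ s, (p : R) ^ s ∣ a s - a (s + 1)) : ∃ l : R, ∀ s, (p : R) ^ s ∣ a s - l := by
  have key : ∀ n k, (p : R) ^ n ∣ a n - a (n + k) := by
    intro n k
    induction k with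
    | zero => simp
    | succ k ih =>
      have : a n - a (n + (k + 1)) = (a n - a (n + k)) + (a (n + k) - a (n + k + 1)) := by
        rw [add_assoc]; ring
      rw [this]
      exact dvd_add ih ((pow_dvd_pow _ (Nat.le_add_right n k)).trans (ha (n + k)))
  obtain ⟨l, hl⟩ := IsPrecomplete.prec (I := Ideal.span {(p : R)}) (M := R) inferInstance (f := a) (by
    intro m n hmn
    obtain ⟨k, rfl⟩ := Nat.exists_eq_add_of_le hmn
    rw [SModEq.sub_mem, smul_eq_mul, Ideal.mul_top, Ideal.span_singleton_pow,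
      Ideal.mem_span_singleton]
    exact key m k)
  refine ⟨l, fun s => ?_⟩
  have := hl s
  rwa [SModEq.sub_mem, smul_eq_mul, Ideal.mul_top, Ideal.span_singleton_pow,
    Ideal.mem_span_singleton] at this

/-- Limits of sequences of Witt vectors. -/
theorem exists_limit_witt [IsPrecomplete (Ideal.span {(p : R)}) R] (a : ℕ → 𝕎 R) (N : ℕ → ℕ → ℕ)
    (ha : ∀ s r, ∀ n ≥ N s r, ∀ m ≥ N s r, Cong s r (a n) (a m)) :
    ∃ l : 𝕎 R, ∀ s r, ∀ n ≥ N s r, Cong s r (a n) l := by
  -- the limit of the `i`-th component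
  have h1 : ∀ i, ∃ l : R, ∀ s, ∀ n ≥ N s (i + 1), (p : R) ^ s ∣ (a n).coeff i - l := by
    intro i
    let M : ℕ → ℕ := fun s => ∑ t ∈ Finset.range (s + 1), N t (i + 1)
    have hM : ∀ s, N s (i + 1) ≤ M s := fun s =>
      Finset.single_le_sum (f := fun t => N t (i + 1)) (fun _ _ => Nat.zero_le _)
        (Finset.self_mem_range_succ s)
    have hM' : ∀ s, M s ≤ M (s + 1) := fun s => by
      show _ ≤ ∑ t ∈ Finset.range (s + 1 + 1), N t (i + 1)
      rw [Finset.sum_range_succ]
      exact Nat.le_add_right _ _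
    obtain ⟨l, hl⟩ := exists_limit (p := p) (fun s => (a (M s)).coeff i) (by
      intro s
      exact Cong.iff.mp (ha s (i + 1) (M s) (hM s) (M (s + 1)) ((hM s).trans (hM' s))) i
        (Nat.lt_succ_self i))
    refine ⟨l, fun s n hn => ?_⟩
    have h2 := Cong.iff.mp (ha s (i + 1) n hn (M s) (hM s)) i (Nat.lt_succ_self i)
    have h3 := dvd_add h2 (hl s)
    simpa using h3
  choose l hl using h1
  refine ⟨WittVector.mk p l, fun s r n hn => ?_⟩
  rw [Cong.iff]
  intro i hi
  -- compare with a later index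
  let m := max (N s r) (N s (i + 1))
  have h2 : (p : R) ^ s ∣ (a n).coeff i - (a m).coeff i :=
    Cong.iff.mp (ha s r n hn m (le_max_left _ _)) i hi
  have h3 : (p : R) ^ s ∣ (a m).coeff i - l i := hl i s m (le_max_right _ _)
  have h4 := dvd_add h2 h3
  simpa using h4

/-- Convergence of `∑ p ^ j * y j`. -/
theorem exists_sum [IsPrecomplete (Ideal.span {(p : R)}) R] (y : ℕ → 𝕎 R) :
    ∃ z : 𝕎 R, ∀ s r, ∀ n ≥ s * r, Cong s r (∑ j ∈ Finset.range n, (p : 𝕎 R) ^ j * y j) z := by
  refine exists_limit_witt _ (fun s r => s * r) ?_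
  intro s r n hn m hm
  have key : ∀ k, Cong s r (∑ j ∈ Finset.range (s * r + k), (p : 𝕎 R) ^ j * y j)
      (∑ j ∈ Finset.range (s * r), (p : 𝕎 R) ^ j * y j) := by
    intro k
    induction k with
    | zero => exact Cong.refl _ _ _
    | succ k ih =>
      rw [← add_assoc, Finset.sum_range_succ]
      have := ih.add (p_pow_cong_zero s r (Nat.le_add_right (s * r) k) (y (s * r + k)))
      rwa [add_zero] at this
  obtain ⟨k, rfl⟩ := Nat.exists_eq_add_of_le hn
  obtain ⟨k', rfl⟩ := Nat.exists_eq_add_of_le hm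
  exact (key k).trans (key k').symm

theorem exists_sum_eq [IsAdicComplete (Ideal.span {(p : R)}) R] (y : ℕ → 𝕎 R) :
    ∃ z : ℕ → 𝕎 R, ∀ k, z 0 = (∑ j ∈ Finset.range k, (p : 𝕎 R) ^ j * y j) + (p : 𝕎 R) ^ k * z k := by
  choose z hz using fun k => exists_sum (p := p) (fun j => y (k + j))
  refine ⟨z, fun k => eq_of_forall_cong fun s r => ?_⟩
  have h1 := hz 0 s r (k + s * r) (Nat.le_add_left _ _)
  have h2 := hz k s r (s * r) le_rfl
  simp only [zero_add] at h1
  rw [Finset.sum_range_add] at h1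
  refine h1.symm.trans ((Cong.refl s r _).add ?_)
  have h3 := (Cong.refl s r ((p : 𝕎 R) ^ k)).mul h2
  rw [Finset.mul_sum] at h3
  have h4 : ∀ j ∈ Finset.range (s * r), (p : 𝕎 R) ^ k * ((p : 𝕎 R) ^ j * y (k + j)) =
      (p : 𝕎 R) ^ (k + j) * y (k + j) := by
    intro j _
    rw [pow_add, mul_assoc]
  rwa [Finset.sum_congr rfl h4] at h3

end complete

variable (p R) in
/-- `W(R)` is `p`-adically separated if `R` is. -/
theorem isHausdorff_p [IsHausdorff (Ideal.span {(p : R)}) R] :
    IsHausdorff (Ideal.span {(p : 𝕎 R)}) (𝕎 R) := by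
  constructor
  intro x hx
  refine eq_of_forall_cong fun s r => ?_
  have h := hx (s * r)
  rw [SModEq.zero, smul_eq_mul, Ideal.mul_top, Ideal.span_singleton_pow,
    Ideal.mem_span_singleton] at h
  obtain ⟨y, rfl⟩ := h
  exact p_pow_cong_zero s r le_rfl y

variable (p R) in
/-- `W(R)` is `p`-adically complete and separated if `R` is. -/
theorem isAdicComplete_p [IsAdicComplete (Ideal.span {(p : R)}) R] :
    IsAdicComplete (Ideal.span {(p : 𝕎 R)}) (𝕎 R) := by
  have h1 := isHausdorff_p p R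
  refine { toIsHausdorff := h1, toIsPrecomplete := ⟨fun f hf => ?_⟩ }
  have h2 : ∀ n, ∃ y : 𝕎 R, f (n + 1) - f n = (p : 𝕎 R) ^ n * y := by
    intro n
    have h := (hf (Nat.le_succ n)).symm
    rw [SModEq.sub_mem, smul_eq_mul, Ideal.mul_top, Ideal.span_singleton_pow,
      Ideal.mem_span_singleton] at h
    exact h
  choose y hy using h2
  obtain ⟨z, hz⟩ := exists_sum_eq (p := p) y
  have h3 : ∀ k, f k = f 0 + ∑ j ∈ Finset.range k, (p : 𝕎 R) ^ j * y j := by
    intro k
    induction k with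
    | zero => simp
    | succ k ih => rw [Finset.sum_range_succ, ← add_assoc, ← ih, ← hy]; ring
  refine ⟨f 0 + z 0, fun k => ?_⟩
  rw [SModEq.sub_mem, smul_eq_mul, Ideal.mul_top, Ideal.span_singleton_pow,
    Ideal.mem_span_singleton, h3 k, hz k]
  exact ⟨-z k, by ring⟩

theorem p_pow_mul_verschiebung_dvd_iff {n : ℕ} {x : 𝕎 R} :
    verschiebung x ∈ (RingHom.ker (constantCoeff : 𝕎 R →+* R)) ^ (n + 1) ↔
      (p : 𝕎 R) ^ n ∣ x := by
  rw [mem_ker_constantCoeff_pow_succ_iff]
  constructor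
  · rintro ⟨y, hy⟩
    exact ⟨y, verschiebung_injective p R hy⟩
  · rintro ⟨y, rfl⟩
    exact ⟨y, rfl⟩

variable (p R) in
/-- If `W(R)` is `p`-adically complete and separated, then it is complete and separated for
`ker (W(R) → R)`. -/
theorem isAdicComplete_ker_of_p [h : IsAdicComplete (Ideal.span {(p : 𝕎 R)}) (𝕎 R)] :
    IsAdicComplete (RingHom.ker (constantCoeff : 𝕎 R →+* R)) (𝕎 R) := by
  refine { toIsHausdorff := ⟨fun x hx => ?_⟩, toIsPrecomplete := ⟨fun f hf => ?_⟩ }
  · have h1 := hx 1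
    rw [SModEq.zero, smul_eq_mul, Ideal.mul_top, pow_one, mem_ker_constantCoeff_iff] at h1
    obtain ⟨y, rfl⟩ := h1
    have h2 : y = 0 := by
      refine IsHausdorff.haus h.toIsHausdorff y fun n => ?_
      have h3 := hx (n + 1)
      rw [SModEq.zero, smul_eq_mul, Ideal.mul_top, p_pow_mul_verschiebung_dvd_iff] at h3
      rw [SModEq.zero, smul_eq_mul, Ideal.mul_top, Ideal.span_singleton_pow,
        Ideal.mem_span_singleton]
      exact h3
    rw [h2, map_zero]
  · -- write `f (n + 1) = f 1 + V (g n)`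
    have h1 : ∀ n, ∃ y : 𝕎 R, f (n + 1) - f 1 = verschiebung y := by
      intro n
      have h := (hf (show 1 ≤ n + 1 by omega)).symm
      rw [SModEq.sub_mem, smul_eq_mul, Ideal.mul_top, pow_one, mem_ker_constantCoeff_iff] at h
      exact h
    choose g hg using h1
    obtain ⟨l, hl⟩ := IsPrecomplete.prec h.toIsPrecomplete (f := g) (by
      intro m n hmn
      have h := hf (show m + 1 ≤ n + 1 by omega)
      rw [SModEq.sub_mem, smul_eq_mul, Ideal.mul_top] at h
      rw [SModEq.sub_mem, smul_eq_mul, Ideal.mul_top, Ideal.span_singleton_pow,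
        Ideal.mem_span_singleton, ← p_pow_mul_verschiebung_dvd_iff, map_sub, ← hg, ← hg]
      simpa using h)
    refine ⟨f 1 + verschiebung l, fun n => ?_⟩
    rcases n with _ | n
    · rw [SModEq.sub_mem, smul_eq_mul, Ideal.mul_top, pow_zero, Ideal.one_eq_top]
      trivial
    · have h2 := hl n
      rw [SModEq.sub_mem, smul_eq_mul, Ideal.mul_top, Ideal.span_singleton_pow,
        Ideal.mem_span_singleton, ← p_pow_mul_verschiebung_dvd_iff, map_sub, ← hg] at h2
      rw [SModEq.sub_mem, smul_eq_mul, Ideal.mul_top]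
      rwa [sub_sub] at h2

variable (p R) in
theorem isAdicComplete_ker [IsAdicComplete (Ideal.span {(p : R)}) R] :
    IsAdicComplete (RingHom.ker (constantCoeff : 𝕎 R →+* R)) (𝕎 R) :=
  have := isAdicComplete_p p R
  isAdicComplete_ker_of_p p R

omit hp in
/-- A ring in which `p` is nilpotent is `p`-adically complete. -/
theorem isAdicComplete_of_isNilpotent (h : IsNilpotent (p : R)) :
    IsAdicComplete (Ideal.span {(p : R)}) R := by
  obtain ⟨k, hk⟩ := h
  have h0 : ∀ n, k ≤ n → (Ideal.span {(p : R)}) ^ n • (⊤ : Submodule R R) = ⊥ := by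
    intro n hn
    obtain ⟨m, rfl⟩ := Nat.exists_eq_add_of_le hn
    rw [smul_eq_mul, Ideal.mul_top, Ideal.span_singleton_pow, pow_add, hk, zero_mul,
      Ideal.span_singleton_eq_bot]
  refine { toIsHausdorff := ⟨fun x hx => ?_⟩, toIsPrecomplete := ⟨fun f hf => ⟨f k, fun n => ?_⟩⟩ }
  · have := hx k
    rwa [SModEq.zero, h0 k le_rfl, Submodule.mem_bot] at this
  · rcases le_total n k with h | h
    · exact hf h
    · have h1 := hf h
      rw [SModEq.sub_mem, h0 k le_rfl, Submodule.mem_bot, sub_eq_zero] at h1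
      rw [h1]

end K86.WittComplete
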