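import Groth.Agent.CAlg.K86.WittComplete
import Groth.Agent.S0527
import Mathlib.RingTheory.Henselian
import Mathlib.RingTheory.WittVector.Teichmuller

/-!
# Henselian pairs from rings of Witt vectors

* `eq_of_eval_eq_zero`: uniqueness of a simple root modulo an ideal in the Jacobson radical;
* `isUnit_of_isUnit_constantCoeff`: units of `W(S)` when `W(S)` is complete for `ker (W(S) → S)`;
* `henselianRing_ker_map`: if `p` is nilpotent in `S` and `φ : S → R` is surjective with nil kernel
  then `W(S)` is henselian along the kernel of `W(S) → W(R)`.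
-/

set_option autoImplicit false

namespace K86.WittHensel

open WittVector K86.WittBasic K86.WittComplete

open Polynomial in
/-- Uniqueness of simple roots modulo an ideal contained in the Jacobson radical. -/
theorem eq_of_eval_eq_zero {A : Type*} [CommRing A] (K : Ideal A) (hK : K ≤ Ideal.jacobson ⊥)
    (P : A[X]) {a b : A} (ha : P.eval a = 0) (hb : P.eval b = 0)
    (hu : IsUnit (P.derivative.eval a)) (hab : b - a ∈ K) : a = b := by
  obtain ⟨c, hc⟩ := Polynomial.exists_mul_sq_add_linear_part_eq_eval_add P a (b - a)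
  rw [add_sub_cancel] at hc
  have h2 : (c * (b - a) + P.derivative.eval a) * (b - a) = 0 := by
    rw [ha, hb] at hc
    linear_combination hc
  have h3 : IsUnit (c * (b - a) + P.derivative.eval a) := by
    have := isLocalHom_of_le_jacobson_bot K hK
    apply IsUnit.of_map (Ideal.Quotient.mk K)
    rw [map_add, map_mul, Ideal.Quotient.eq_zero_iff_mem.mpr hab, mul_zero, zero_add]
    exact hu.map _
  have h5 := (h3.mul_right_eq_zero).mp h2
  exact (sub_eq_zero.mp h5).symm

variable {p : ℕ} [hp : Fact p.Prime]

local notation "𝕎" => WittVector p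

theorem ker_constantCoeff_le_jacobson {S : Type*} [CommRing S] (h : IsNilpotent (p : S)) :
    RingHom.ker (constantCoeff : 𝕎 S →+* S) ≤ Ideal.jacobson ⊥ := by
  have := isAdicComplete_of_isNilpotent h
  have := isAdicComplete_ker p S
  exact IsAdicComplete.le_jacobson_bot _

theorem isUnit_of_isUnit_constantCoeff {S : Type*} [CommRing S] (h : IsNilpotent (p : S)) {x : 𝕎 S}
    (hx : IsUnit (x.coeff 0)) : IsUnit x := by
  have h1 := isLocalHom_of_le_jacobson_bot _ (ker_constantCoeff_le_jacobson (p := p) h)
  apply IsUnit.of_map (Ideal.Quotient.mk (RingHom.ker (constantCoeff : 𝕎 S →+* S)))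
  have h2 := hx.map (RingHom.quotientKerEquivOfSurjective
    (constantCoeff_surjective p (R := S))).symm
  have h3 : (RingHom.quotientKerEquivOfSurjective (constantCoeff_surjective p (R := S))).symm
      (x.coeff 0) = Ideal.Quotient.mk (RingHom.ker (constantCoeff : 𝕎 S →+* S)) x := by
    rw [RingEquiv.symm_apply_eq]
    rfl
  rwa [h3] at h2

theorem mem_ker_map {S R : Type*} [CommRing S] [CommRing R] {φ : S →+* R} {x : 𝕎 S} :
    x ∈ RingHom.ker (WittVector.map (p := p) φ) ↔ ∀ i, φ (x.coeff i) = 0 := by
  rw [RingHom.mem_ker]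
  constructor
  · intro h i
    have := congrArg (fun y => y.coeff i) h
    simpa using this
  · intro h
    ext i
    rw [map_coeff, h i, zero_coeff]

/-- If `p` is nilpotent in `S` and `φ : S → R` is surjective with nil kernel, then `W(S)` is
henselian along the kernel of `W(S) → W(R)`. -/
theorem henselianRing_ker_map {S R : Type*} [CommRing S] [CommRing R] (φ : S →+* R)
    (hnil : ∀ a : S, φ a = 0 → IsNilpotent a)
    (hp' : IsNilpotent (p : S)) :
    HenselianRing (𝕎 S) (RingHom.ker (WittVector.map (p := p) φ)) := by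
  have hpR : IsNilpotent (p : R) := by
    have := hp'.map φ
    rwa [map_natCast] at this
  have hc := isAdicComplete_of_isNilpotent hp'
  have hc2 := isAdicComplete_ker p S
  have hHS : HenselianRing S (RingHom.ker φ) :=
    Groth.Agent.S0527.result S (RingHom.ker φ) (fun x hx => hnil x hx)
  have hHW : HenselianRing (𝕎 S) (RingHom.ker (constantCoeff : 𝕎 S →+* S)) := inferInstance
  have hjac : RingHom.ker (WittVector.map (p := p) φ) ≤ Ideal.jacobson ⊥ := by
    intro x hx
    rw [Ideal.mem_jacobson_bot]
    intro y
    apply isUnit_of_isUnit_constantCoeff hp'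
    rw [add_coeff_zero, mul_coeff_zero, one_coeff_zero]
    have h1 : IsNilpotent (x.coeff 0 * y.coeff 0) :=
      (Commute.all _ _).isNilpotent_mul_right (hnil _ (mem_ker_map.mp hx 0))
    exact h1.isUnit_add_one
  refine ⟨hjac, ?_⟩
  · intro f hf a₀ h₁ h₂
    -- the image over `S`
    let fS := f.map (constantCoeff : 𝕎 S →+* S)
    have e1 : ∀ a : 𝕎 S, fS.eval (a.coeff 0) = (f.eval a).coeff 0 := by
      intro a
      have := Polynomial.eval_map_apply (f := (constantCoeff : 𝕎 S →+* S)) (p := f) a
      exact this
    have e2 : ∀ a : 𝕎 S, fS.derivative.eval (a.coeff 0) = (f.derivative.eval a).coeff 0 := by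
      intro a
      have := Polynomial.eval_map_apply (f := (constantCoeff : 𝕎 S →+* S)) (p := f.derivative) a
      rw [← Polynomial.derivative_map] at this
      exact this
    have hu : IsUnit (f.derivative.eval a₀) := by
      have := isLocalHom_of_le_jacobson_bot _ hjac
      exact IsUnit.of_map (Ideal.Quotient.mk _) _ h₂
    have h₁' : fS.eval (a₀.coeff 0) ∈ RingHom.ker φ := by
      rw [e1]
      exact mem_ker_map.mp h₁ 0
    have h₂' : IsUnit (fS.derivative.eval (a₀.coeff 0)) := by
      rw [e2]
      exact hu.map (constantCoeff : 𝕎 S →+* S)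
    obtain ⟨b, hb, hba⟩ := hHS.is_henselian fS (hf.map _) (a₀.coeff 0) h₁' (h₂'.map _)
    -- lift `b`
    let b₁ : 𝕎 S := a₀ + teichmuller p (b - a₀.coeff 0)
    have hb₁ : b₁.coeff 0 = b := by
      rw [add_coeff_zero, teichmuller_coeff_zero]
      ring
    have hb₁' : b₁ - a₀ ∈ RingHom.ker (WittVector.map (p := p) φ) := by
      rw [add_sub_cancel_left, RingHom.mem_ker, map_teichmuller, RingHom.mem_ker.mp hba,
        teichmuller_zero]
    have h3 : f.eval b₁ ∈ RingHom.ker (constantCoeff : 𝕎 S →+* S) := by
      rw [mem_ker_constantCoeff, ← e1, hb₁]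
      exact hb
    have h4 : IsUnit (f.derivative.eval b₁) := by
      apply isUnit_of_isUnit_constantCoeff hp'
      rw [← e2, hb₁]
      have := isLocalHom_of_le_jacobson_bot _ hHS.jac
      apply IsUnit.of_map (Ideal.Quotient.mk (RingHom.ker φ))
      have h5 : Ideal.Quotient.mk (RingHom.ker φ) (fS.derivative.eval b) =
          Ideal.Quotient.mk (RingHom.ker φ) (fS.derivative.eval (a₀.coeff 0)) := by
        rw [Ideal.Quotient.eq]
        exact Ideal.mem_of_dvd _ (Polynomial.sub_dvd_eval_sub _ _ _) hba
      rw [h5]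
      exact h₂'.map _
    obtain ⟨a, ha, hab⟩ := hHW.is_henselian f hf b₁ h3 (h4.map _)
    refine ⟨a, ha, ?_⟩
    -- uniqueness over `W(R)`
    have e3 : ∀ (g : Polynomial (𝕎 S)) (x : 𝕎 S),
        (g.map (WittVector.map (p := p) φ)).eval (WittVector.map (p := p) φ x) =
          WittVector.map (p := p) φ (g.eval x) := fun g x => Polynomial.eval_map_apply _ _
    have h6 : WittVector.map (p := p) φ a₀ = WittVector.map (p := p) φ a := by
      refine eq_of_eval_eq_zero (RingHom.ker (constantCoeff : 𝕎 R →+* R))
        (ker_constantCoeff_le_jacobson hpR) (f.map (WittVector.map (p := p) φ)) ?_ ?_ ?_ ?_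
      · rw [e3]
        exact h₁
      · rw [e3, ha.eq_zero, map_zero]
      · rw [Polynomial.derivative_map, e3]
        exact hu.map _
      · rw [← map_sub, mem_ker_constantCoeff, map_coeff]
        have h7 : a - a₀ = (a - b₁) + (b₁ - a₀) := by ring
        rw [h7, add_coeff_zero, mem_ker_constantCoeff.mp hab, zero_add]
        exact mem_ker_map.mp hb₁' 0
    rw [RingHom.mem_ker, map_sub, h6, sub_self]

end K86.WittHensel
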