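import Groth.Agent.CAlg.K86.WittComplete
import Mathlib.RingTheory.WittVector.InitTail

/-!
# Witt vectors of a `p`-torsion free, `p`-adically complete ring

* `sub_mem_ker_truncate_iff`: congruence modulo `I_n` in terms of components;
* `exists_limit_truncate`: limits for the filtration by the ideals `I_n`;
* `cong_of_p_pow_mul`, `mem_ker_truncate_of_p_pow_mul`: dividing by `p ^ u`;
* `exists_p_pow_mul_sub_mem_ker`: solving `p ^ u * x = a` in `W_m(R)`;
* `p_pow_dvd_of_forall`: `p ^ u W` is closed.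
-/

set_option autoImplicit false

namespace K86.WittTorsionFree

open WittVector K86.WittBasic K86.WittComplete

variable {p : ℕ} [hp : Fact p.Prime] {R : Type*} [CommRing R]

local notation "𝕎" => WittVector p

theorem sub_mem_ker_truncate_iff {n : ℕ} {x y : 𝕎 R} :
    x - y ∈ RingHom.ker (truncate (p := p) (R := R) n) ↔ ∀ i < n, x.coeff i = y.coeff i := by
  rw [RingHom.mem_ker, map_sub, sub_eq_zero]
  constructor
  · intro h i hi
    have := congrArg (fun z => TruncatedWittVector.coeff ⟨i, hi⟩ z) h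
    simpa using this
  · intro h
    ext i
    rw [coeff_truncate, coeff_truncate]
    exact h i i.2

/-- Limits for the filtration by the kernels of the truncations. -/
theorem exists_limit_truncate (x : ℕ → 𝕎 R)
    (hx : ∀ m, x (m + 1) - x m ∈ RingHom.ker (truncate (p := p) (R := R) m)) :
    ∃ l : 𝕎 R, ∀ m, l - x m ∈ RingHom.ker (truncate (p := p) (R := R) m) := by
  have key : ∀ m k, x (m + k) - x m ∈ RingHom.ker (truncate (p := p) (R := R) m) := by
    intro m k
    induction k with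
    | zero => simp
    | succ k ih =>
      have : x (m + (k + 1)) - x m = (x (m + k + 1) - x (m + k)) + (x (m + k) - x m) := by
        rw [add_assoc]; ring
      rw [this]
      exact add_mem (ker_truncate_anti (Nat.le_add_right m k) (hx (m + k))) ih
  refine ⟨WittVector.mk p fun i => (x (i + 1)).coeff i, fun m => ?_⟩
  rw [sub_mem_ker_truncate_iff]
  intro i hi
  obtain ⟨k, rfl⟩ := Nat.exists_eq_add_of_le (Nat.succ_le_of_lt hi)
  have := sub_mem_ker_truncate_iff.mp (key (i + 1) k) i (Nat.lt_succ_self i)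
  rw [coeff_mk]
  exact this.symm

theorem eq_zero_of_forall_mem_ker_truncate {x : 𝕎 R}
    (h : ∀ n, x ∈ RingHom.ker (truncate (p := p) (R := R) n)) : x = 0 := by
  ext n
  rw [zero_coeff]
  exact (mem_ker_truncate _ x).mp (h (n + 1)) n (Nat.lt_succ_self n)

theorem cong_of_p_pow_mul (hR : ∀ y : R, (p : R) * y = 0 → y = 0) {s r u : ℕ} (hs : 1 ≤ s)
    {x y : 𝕎 R} (h : Cong (s + u) r ((p : 𝕎 R) ^ u * x) ((p : 𝕎 R) ^ u * y)) : Cong s r x y := by
  rw [← cong_sub_zero, ← mul_sub, cong_zero_iff] at h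
  rw [← cong_sub_zero, cong_zero_iff]
  rcases r with _ | r
  · intro i hi; omega
  · have h1 := (pow_dvd_coeff_iff hR (x := (p : 𝕎 R) ^ u * (x - y)) (s := s + u) (by omega)
      (m := r)).mp (fun i hi => h i (Nat.lt_succ_of_le hi))
    intro i hi
    refine (pow_dvd_coeff_iff hR (x := x - y) hs (m := r)).mpr ?_ i (Nat.lt_succ_iff.mp hi)
    intro n hn
    obtain ⟨c, hc⟩ := h1 n hn
    rw [map_mul, map_pow, map_natCast] at hc
    refine ⟨c, p_pow_mul_cancel hR u ?_⟩
    rw [hc, ← mul_assoc, ← pow_add]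
    congr 2
    omega

theorem mem_ker_truncate_of_p_pow_mul (hR : ∀ y : R, (p : R) * y = 0 → y = 0) {r u : ℕ}
    {x : 𝕎 R} (h : (p : 𝕎 R) ^ u * x ∈ RingHom.ker (truncate (p := p) (R := R) r)) :
    x ∈ RingHom.ker (truncate (p := p) (R := R) r) := by
  rw [mem_ker_truncate] at h ⊢
  intro i hi
  rw [← zero_coeff p R i]
  refine coeff_eq_of_ghost hR r (fun n hn => ?_) i hi
  have h1 := ghostComponent_eq_of_coeff (x := (p : 𝕎 R) ^ u * x) (y := 0) r
    (fun j hj => by rw [h j hj, zero_coeff]) n hn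
  rw [map_zero] at h1 ⊢
  rw [map_mul, map_pow, map_natCast] at h1
  refine p_pow_mul_cancel hR u ?_
  rw [h1, mul_zero]

theorem coeff_init (n : ℕ) (x : 𝕎 R) (i : ℕ) :
    (init n x).coeff i = if i < n then x.coeff i else 0 := by
  rw [init, select, coeff_mk]
  split_ifs <;> rfl

/-- Solving `p ^ u * x = a` in `W_m(R)`. -/
theorem exists_p_pow_mul_sub_mem_ker (hR : ∀ y : R, (p : R) * y = 0 → y = 0)
    [IsAdicComplete (Ideal.span {(p : R)}) R] (a : 𝕎 R) (m u : ℕ)
    (h : ∀ s : ℕ, ∃ z : 𝕎 R, Cong s m ((p : 𝕎 R) ^ u * z) a) :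
    ∃ x : 𝕎 R, (p : 𝕎 R) ^ u * x - a ∈ RingHom.ker (truncate (p := p) (R := R) m) := by
  choose z hz using h
  have h0 : ∀ s n, s ≤ n → Cong s m (z (n + u)) (z (s + u)) := by
    intro s n hn
    rcases s with _ | s
    · rw [Cong.iff]; intro i _; simp
    · refine cong_of_p_pow_mul hR (u := u) (by omega) ?_
      exact ((hz (n + u)).mono (by omega) le_rfl).trans (hz (s + 1 + u)).symm
  obtain ⟨l, hl⟩ := exists_limit_witt (p := p) (fun n => init m (z (n + u))) (fun s _ => s) (by
    intro s r n hn k hk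
    rw [Cong.iff]
    intro i _
    rw [coeff_init, coeff_init]
    split_ifs with hi
    · exact Cong.iff.mp ((h0 s n hn).trans (h0 s k hk).symm) i hi
    · simp)
  refine ⟨l, ?_⟩
  rw [sub_mem_ker_truncate_iff]
  intro i hi
  rw [← sub_eq_zero]
  refine eq_zero_of_forall_dvd (p := p) fun s => ?_
  suffices hc : Cong s m ((p : 𝕎 R) ^ u * l) a from Cong.iff.mp hc i hi
  have h1 : Cong s m l (z (s + u)) := by
    have h2 := hl s m s le_rfl
    rw [Cong.iff] at h2 ⊢
    intro j hj
    have h3 := h2 j hj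
    rw [coeff_init, if_pos hj] at h3
    rw [← neg_sub, dvd_neg]
    exact h3
  exact ((Cong.refl s m ((p : 𝕎 R) ^ u)).mul h1).trans ((hz (s + u)).mono (by omega) le_rfl)

/-- `p ^ u W(R)` is closed for the topology given by the ideals `I_r + W(p ^ s R)`. -/
theorem p_pow_dvd_of_forall (hR : ∀ y : R, (p : R) * y = 0 → y = 0)
    [IsAdicComplete (Ideal.span {(p : R)}) R] (a : 𝕎 R) (u : ℕ)
    (h : ∀ s r : ℕ, ∃ z : 𝕎 R, Cong s r ((p : 𝕎 R) ^ u * z) a) : (p : 𝕎 R) ^ u ∣ a := by
  choose x hx using fun m => exists_p_pow_mul_sub_mem_ker hR a m u (fun s => h s m)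
  obtain ⟨l, hl⟩ := exists_limit_truncate x (by
    intro m
    refine mem_ker_truncate_of_p_pow_mul hR (u := u) ?_
    have h1 : (p : 𝕎 R) ^ u * (x (m + 1) - x m) =
        ((p : 𝕎 R) ^ u * x (m + 1) - a) - ((p : 𝕎 R) ^ u * x m - a) := by ring
    rw [h1]
    exact sub_mem (ker_truncate_anti (Nat.le_succ m) (hx (m + 1))) (hx m))
  refine ⟨l, ?_⟩
  rw [eq_comm, ← sub_eq_zero]
  refine eq_zero_of_forall_mem_ker_truncate fun m => ?_
  have h1 : (p : 𝕎 R) ^ u * l - a = (p : 𝕎 R) ^ u * (l - x m) + ((p : 𝕎 R) ^ u * x m - a) := by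
    ring
  rw [h1]
  exact add_mem (Ideal.mul_mem_left _ _ (hl m)) (hx m)

end K86.WittTorsionFree
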